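import Mathlib
import Cfsg.Agent.Lib.LocStr.Basic
import Cfsg.Agent.Lib.LocStr.WeakClosed

/-!
Self-centralizing weakly closed subgroups and large subgroups.
-/

set_option autoImplicit false
set_option linter.unusedSectionVars false

namespace CfsgLib.LocStr

open Subgroup Cfsg CfsgLib.LAE
open scoped commutatorElement

variable {G : Type*} [Group G] {p : ℕ}

/-- If `D` centralizes `W = [V, Q]` and `Q`, `D` normalize `V`, then `[[D, Q], V] ≤ W`. -/
theorem commutator_commutator_le_of_centralizes {V Q D : Subgroup G}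
    (hDV : D ≤ normalizer (V : Set G)) (hDW : D ≤ centralizer ((⁅V, Q⁆ : Subgroup G) : Set G))
    (hQV : Q ≤ normalizer (V : Set G)) : ⁅⁅D, Q⁆, V⁆ ≤ ⁅V, Q⁆ := by
  set W : Subgroup G := ⁅V, Q⁆ with hW
  have hVW : V ≤ normalizer (W : Set G) := normalizer_commutator_ge_left V Q
  have hQW : Q ≤ normalizer (W : Set G) := normalizer_commutator_ge_right V Q
  have hDW' : D ≤ normalizer (W : Set G) := hDW.trans (centralizer_le_normalizer _)
  -- the elements of `N(V) ∩ N(W)` acting trivially on `V / W`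
  let K : Subgroup G :=
    { carrier := {x | x ∈ normalizer (V : Set G) ∧ x ∈ normalizer (W : Set G) ∧
        ∀ v ∈ V, ⁅x, v⁆ ∈ W}
      one_mem' := ⟨one_mem _, one_mem _, fun v _ => by simp⟩
      mul_mem' := by
        rintro a b ⟨ha1, ha2, ha3⟩ ⟨hb1, hb2, hb3⟩
        refine ⟨mul_mem ha1 hb1, mul_mem ha2 hb2, fun v hv => ?_⟩
        have e : ⁅a * b, v⁆ = (a * ⁅b, v⁆ * a⁻¹) * ⁅a, v⁆ := by
          simp only [commutatorElement_def]; group
        rw [e]
        exact mul_mem (conj_mem_of_mem_normalizer ha2 (hb3 v hv)) (ha3 v hv)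
      inv_mem' := by
        rintro a ⟨ha1, ha2, ha3⟩
        refine ⟨inv_mem ha1, inv_mem ha2, fun v hv => ?_⟩
        have e : ⁅a⁻¹, v⁆ = a⁻¹ * ⁅a, v⁆⁻¹ * a := by
          simp only [commutatorElement_def]; group
        rw [e]
        exact conj_inv_mem_of_mem_normalizer ha2 (inv_mem (ha3 v hv)) }
  have hQK : ∀ q ∈ Q, q ∈ K := fun q hq => ⟨hQV hq, hQW hq, fun v hv => by
    rw [← commutatorElement_inv]
    exact inv_mem (commutator_mem_commutator hv hq)⟩
  have hconj : ∀ d ∈ D, ∀ x ∈ K, d * x * d⁻¹ ∈ K := by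
    rintro d hd x ⟨h1, h2, h3⟩
    refine ⟨mul_mem (mul_mem (hDV hd) h1) (inv_mem (hDV hd)),
      mul_mem (mul_mem (hDW' hd) h2) (inv_mem (hDW' hd)), fun v hv => ?_⟩
    have e : ⁅d * x * d⁻¹, v⁆ = d * ⁅x, d⁻¹ * v * d⁆ * d⁻¹ := by
      simp only [commutatorElement_def]; group
    rw [e]
    exact conj_mem_of_mem_normalizer (hDW' hd) (h3 _ (conj_inv_mem_of_mem_normalizer (hDV hd) hv))
  have hle : ⁅D, Q⁆ ≤ K := by
    rw [commutator_le]
    intro d hd q hq
    rw [commutatorElement_def]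
    exact mul_mem (hconj d hd q (hQK q hq)) (inv_mem (hQK q hq))
  rw [commutator_le]
  intro x hx v hv
  exact (hle hx).2.2 v hv

variable [Finite G] [Fact p.Prime]

/-- The core step: `Q` weakly closed and self-centralizing, `Q ≤ L`, `D = C(O_p(L))`, and `V` a
`p`-subgroup normalized by `D` and `Q` with `V ∩ L ≤ O_p(L)` whose centralizer in `D` is a
`p`-group. -/
theorem wc_charP_core {Q L V : Subgroup G} (h : IsWeaklyClosedSubgroup p Q)
    (hC : centralizer (Q : Set G) ≤ Q) (hQL : Q ≤ L) (hV : IsPGroup p V)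
    (hDV : centralizer (pCoreOf p L : Set G) ≤ normalizer (V : Set G))
    (hQV : Q ≤ normalizer (V : Set G)) (hVL : V ⊓ L ≤ pCoreOf p L)
    (hc : IsPGroup p (centralizer (pCoreOf p L : Set G) ⊓ centralizer (V : Set G) : Subgroup G)) :
    ⁅Q, centralizer (pCoreOf p L : Set G)⁆ ≤ Q ⊓ pCoreOf p L ∧
      IsPGroup p (centralizer (pCoreOf p L : Set G)) ∧
      L ⊓ centralizer (pCoreOf p L : Set G) ≤ pCoreOf p L := by
  set D := centralizer (pCoreOf p L : Set G) with hD
  have hLD : L ≤ normalizer (D : Set G) := le_normalizer_centralizer (le_normalizer_pCoreOf L)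
  have hVQ : V ≤ normalizer (Q : Set G) := wc_le_normalizer_of_normalizes h hV hQV
  have hW : ⁅V, Q⁆ ≤ pCoreOf p L :=
    le_trans (le_inf (commutator_le_left_of_le_normalizer hQV)
      ((commutator_le_right_of_le_normalizer hVQ).trans hQL)) hVL
  have hDW : D ≤ centralizer ((⁅V, Q⁆ : Subgroup G) : Set G) := centralizer_anti hW
  have hDQD : ⁅D, Q⁆ ≤ D := commutator_le_left_of_le_normalizer (hQL.trans hLD)
  have hp1 : IsPGroup p (⁅D, Q⁆ : Subgroup G) := by
    apply isPGroup_of_forall_coprime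
    intro x hx hxc
    have := mem_centralizer_of_commutator_le ((isPGroup_pCoreOf L).to_le hW)
      (commutator_commutator_le_of_centralizes hDV hDW hQV) (hDQD.trans hDW) hx hxc
    exact eq_one_of_coprime_of_mem hc ⟨hDQD hx, this⟩ hxc
  have hDN : D ≤ normalizer (Q : Set G) := by
    intro d hd
    rw [mem_normalizer_iff_conjS]
    refine wc_conj_eq h (isPGroup_sup (wc_isPGroup h) hp1 (normalizer_commutator_ge_right D Q))
      le_sup_left ?_
    rw [conjS_le_iff_forall]
    intro q hq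
    have e : d * q * d⁻¹ = ⁅d, q⁆ * q := by rw [commutatorElement_def]; group
    rw [e]
    exact mul_mem (mem_sup_right (commutator_mem_commutator hd hq)) (mem_sup_left hq)
  have h1 : ⁅D, Q⁆ ≤ Q := commutator_le_right_of_le_normalizer hDN
  have h2 : ⁅D, Q⁆ ≤ pCoreOf p L :=
    le_trans (le_inf (le_pCoreOf hp1 hDQD (normalizer_commutator_ge_left D Q)) (h1.trans hQL))
      (op_inf_le_of_normalizes hLD)
  have hDp : IsPGroup p D := by
    apply isPGroup_of_forall_coprime
    intro x hx hxc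
    exact eq_one_of_coprime_of_mem (wc_isPGroup h)
      (hC (mem_centralizer_of_commutator_le (isPGroup_pCoreOf L) h2 le_rfl hx hxc)) hxc
  refine ⟨?_, hDp, charP_of_isPGroup hDp.to_inf_right⟩
  rw [commutator_comm]
  exact le_inf h1 h2

/-- Overgroups of a self-centralizing weakly closed subgroup inside a subgroup `X` of
characteristic `p` have characteristic `p`. -/
theorem wc_charP_of_le {Q L X : Subgroup G} (h : IsWeaklyClosedSubgroup p Q)
    (hC : centralizer (Q : Set G) ≤ Q) (hQL : Q ≤ L) (hLX : L ≤ X)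
    (hX : X ⊓ centralizer (pCoreOf p X : Set G) ≤ pCoreOf p X) :
    L ⊓ centralizer (pCoreOf p L : Set G) ≤ pCoreOf p L := by
  have hQX := hQL.trans hLX
  have h1 : centralizer ((Q.subgroupOf X : Subgroup X) : Set X) ≤ Q.subgroupOf X := by
    rw [centralizer_subgroupOf hQX]
    exact fun x hx => hC hx
  have hX' := charP_iff.2 hX
  have := (wc_charP_core (L := L.subgroupOf X) (V := pCore p X) (wc_subgroupOf h hQX) h1
    (fun x hx => hQL hx) isPGroup_pCore le_normalizer_of_normal le_normalizer_of_normal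
    (by rw [← pCoreOf_top]; exact op_inf_le le_top)
    (isPGroup_pCore.to_le (inf_le_right.trans hX'))).2.2
  rw [pCoreOf_subgroupOf_of_le hLX, centralizer_subgroupOf ((pCoreOf_le L).trans hLX)] at this
  intro x hx
  exact this (x := ⟨x, hLX hx.1⟩) hx

/-- As `wc_charP_core`, when `Q` and `C(O_p(L))` lie in a subgroup `X` of characteristic `p`. -/
theorem wc_charP_of_charP {Q L X : Subgroup G} (h : IsWeaklyClosedSubgroup p Q)
    (hC : centralizer (Q : Set G) ≤ Q) (hQL : Q ≤ L) (hQX : Q ≤ X)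
    (hDX : centralizer (pCoreOf p L : Set G) ≤ X)
    (hX : X ⊓ centralizer (pCoreOf p X : Set G) ≤ pCoreOf p X) :
    ⁅Q, centralizer (pCoreOf p L : Set G)⁆ ≤ Q ⊓ pCoreOf p L ∧
      IsPGroup p (centralizer (pCoreOf p L : Set G)) ∧
      L ⊓ centralizer (pCoreOf p L : Set G) ≤ pCoreOf p L := by
  set D := centralizer (pCoreOf p L : Set G) with hD
  have hLD : L ≤ normalizer (D : Set G) := le_normalizer_centralizer (le_normalizer_pCoreOf L)
  have h1 := wc_charP_of_le h hC (L := D ⊔ Q) le_sup_right (sup_le hDX hQX) hX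
  have h2 := charP_of_normal h1 le_sup_left (sup_le le_normalizer (hQL.trans hLD))
  exact wc_charP_core h hC hQL (isPGroup_pCoreOf D) (le_normalizer_pCoreOf D)
    (le_normalizer_pCoreOf_of_le (hQL.trans hLD)) (op_inf_le_of_normalizes hLD)
    ((isPGroup_pCoreOf D).to_le h2)

/-! ### Large subgroups -/

omit [Finite G] [Fact p.Prime] in
theorem large_conj {Q : Subgroup G} (h : IsLarge Q) (g : G) : IsLarge (conjS g Q) := by
  refine ⟨?_, fun U hU hU1 => ?_⟩
  · rw [← conjS_centralizer]; exact conjS_mono h.1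
  · rw [← conjS_centralizer, le_conjS_iff] at hU
    have := h.2 _ hU (fun e => hU1 (conjS_eq_bot_iff.1 e))
    rw [← conjS_normalizer, conjS_le_iff, inv_inv, conjS_normalizer] at this
    exact this

omit [Finite G] [Fact p.Prime] in
theorem large_centralizer_singleton_le {Q : Subgroup G} (h : IsLarge Q) {y : G} (hy : y ≠ 1)
    (hc : y ∈ centralizer (Q : Set G)) : centralizer ({y} : Set G) ≤ normalizer (Q : Set G) := by
  refine le_trans ?_ (h.2 (zpowers y) (zpowers_le.2 hc) (zpowers_ne_bot.2 hy))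
  refine le_trans ?_ (centralizer_le_normalizer _)
  rw [zpowers_eq_closure, centralizer_closure]

theorem large_wc {Q : Subgroup G} (hQ : IsPGroup p Q) (h1 : Q ≠ ⊥) (h : IsLarge Q) :
    IsWeaklyClosedSubgroup p Q := by
  refine wc_of_normalizer_le hQ fun R hR hQR => ?_
  have hR1 : R ≠ ⊥ := fun e => h1 (le_bot_iff.1 (e ▸ hQR))
  refine le_trans ?_ (h.2 (R ⊓ centralizer (R : Set G))
    (inf_le_right.trans (centralizer_anti hQR)) (inf_centralizer_ne_bot hR hR le_normalizer hR1))
  exact le_normalizer_inf le_rfl (le_normalizer_centralizer le_rfl)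

/-- The centralizer of a nontrivial `p`-subgroup normalized by `Q` normalizes `Q`. -/
theorem large_centralizer_le_normalizer {Q Y : Subgroup G} (hQ : IsPGroup p Q) (h : IsLarge Q)
    (hY : IsPGroup p Y) (hY1 : Y ≠ ⊥) (hn : Q ≤ normalizer (Y : Set G)) :
    centralizer (Y : Set G) ≤ normalizer (Q : Set G) := by
  obtain ⟨y, hy, hy1, hyc⟩ := exists_mem_centralizer_ne_one hQ hY hn hY1
  exact (centralizer_le (Set.singleton_subset_iff.2 hy)).trans
    (large_centralizer_singleton_le h hy1 hyc)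

theorem large_centralizer_inf_eq_bot {Q : Subgroup G} (hQ : IsPGroup p Q) (h1 : Q ≠ ⊥)
    (h : IsLarge Q) {g : G} (hg : conjS g Q ≠ Q) :
    centralizer (Q : Set G) ⊓ centralizer (conjS g Q : Set G) = ⊥ := by
  by_contra hne
  apply hg
  refine wc_conj_eq_of_normalizes (large_wc hQ h1 h) (le_trans ?_ (h.2 _ inf_le_left hne))
  exact (le_centralizer_iff.1 inf_le_right).trans (centralizer_le_normalizer _)

theorem large_charP_centralizer {Q : Subgroup G} (hQ : IsPGroup p Q) (h : IsLarge Q) {y : G}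
    (hy : y ≠ 1) (hc : y ∈ centralizer (Q : Set G)) :
    centralizer ({y} : Set G) ⊓ centralizer (pCoreOf p (centralizer ({y} : Set G)) : Set G) ≤
      pCoreOf p (centralizer ({y} : Set G)) :=
  charP_of_self_centralizing hQ
    (fun _ hq => mem_centralizer_singleton_iff.2 (mem_centralizer_iff.1 hc _ hq))
    (large_centralizer_singleton_le h hy hc) (inf_le_right.trans h.1)

theorem large_charP {Q L : Subgroup G} (hQ : IsPGroup p Q) (h1 : Q ≠ ⊥) (h : IsLarge Q)
    (hQL : Q ≤ L) (hL : pCoreOf p L ≠ ⊥) :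
    ⁅Q, centralizer (pCoreOf p L : Set G)⁆ ≤ Q ⊓ pCoreOf p L ∧
      IsPGroup p (centralizer (pCoreOf p L : Set G)) ∧
      L ⊓ centralizer (pCoreOf p L : Set G) ≤ pCoreOf p L := by
  obtain ⟨y, hy, hy1, hyc⟩ := exists_mem_centralizer_ne_one hQ (isPGroup_pCoreOf L)
    (hQL.trans (le_normalizer_pCoreOf L)) hL
  exact wc_charP_of_charP (large_wc hQ h1 h) h.1 hQL
    (fun _ hq => mem_centralizer_singleton_iff.2 (mem_centralizer_iff.1 hyc _ hq))
    (centralizer_le (Set.singleton_subset_iff.2 hy)) (large_charP_centralizer hQ h hy1 hyc)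

/-- With a large subgroup, parabolic subgroups with `O_p ≠ 1` lie in `𝓛`. -/
theorem large_centralizer_op_le {Q R : Subgroup G} (hQ : IsPGroup p Q) (h1 : Q ≠ ⊥)
    (h : IsLarge Q) (S : Sylow p G) (hSR : (S : Subgroup G) ≤ R) (hR : pCoreOf p R ≠ ⊥) :
    centralizer (pCoreOf p R : Set G) ≤ pCoreOf p R := by
  obtain ⟨g, -, hg⟩ := (isSylowIn_top S).exists_conj_le hQ le_top
  have hD := (large_charP (isPGroup_conjS hQ g) (fun e => h1 (conjS_eq_bot_iff.1 e))
    (large_conj h g) (hg.trans hSR) hR).2.1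
  have hn : R ≤ normalizer ((centralizer (pCoreOf p R : Set G) : Subgroup G) : Set G) :=
    le_normalizer_centralizer (le_normalizer_pCoreOf R)
  exact le_pCoreOf hD (((isSylowIn_top S).le_of_le_normalizer hD le_top (hSR.trans hn)).trans hSR)
    hn

theorem large_parabolic {Q : Subgroup G} (hQ : IsPGroup p Q) (h1 : Q ≠ ⊥) (h : IsLarge Q) :
    IsOfParabolicCharacteristic p G := by
  rintro R hR hR1 ⟨S, hS⟩
  rw [charP_iff]
  refine inf_le_right.trans (large_centralizer_op_le hQ h1 h S hS fun e => hR1 ?_)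
  exact le_bot_iff.1 (e ▸ le_pCoreOf hR le_normalizer le_rfl)

theorem large_centralizer_le_normalizer_conj {Q L Y : Subgroup G} (hQ : IsPGroup p Q)
    (h : IsLarge Q) (hY : IsPGroup p Y) (hY1 : Y ≠ ⊥) (hn : L ≤ normalizer (Y : Set G)) {g : G}
    (hg : conjS g Q ≤ L) : centralizer (Y : Set G) ≤ normalizer (conjS g Q : Set G) :=
  large_centralizer_le_normalizer (isPGroup_conjS hQ g) (large_conj h g) hY hY1 (hg.trans hn)

theorem large_centralizer_le_normalizer_weakClosure {Q L Y : Subgroup G} (hQ : IsPGroup p Q)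
    (h : IsLarge Q) (hY : IsPGroup p Y) (hY1 : Y ≠ ⊥) (hn : L ≤ normalizer (Y : Set G)) :
    centralizer (Y : Set G) ≤ normalizer (weakClosure Q L : Set G) := by
  rw [weakClosure_def]
  exact le_trans (le_iInf fun g => large_centralizer_le_normalizer_conj hQ h hY hY1 hn g.2)
    (iInf_normalizer_le_normalizer_iSup _)

theorem large_weakClosure_sup_centralizer {Q L Y : Subgroup G} (hQ : IsPGroup p Q) (h1 : Q ≠ ⊥)
    (h : IsLarge Q) (hQL : Q ≤ L) (hY : IsPGroup p Y) (hY1 : Y ≠ ⊥)
    (hn : L ≤ normalizer (Y : Set G)) :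
    weakClosure Q (L ⊔ centralizer (Y : Set G)) = weakClosure Q L :=
  le_antisymm (wc_weakClosure_le_of_normalizer (large_wc hQ h1 h) (hQL.trans le_sup_left)
    (le_weakClosure hQL) (sup_le (le_normalizer_weakClosure Q L)
      (large_centralizer_le_normalizer_weakClosure hQ h hY hY1 hn)))
    (weakClosure_mono Q le_sup_left)

omit [Finite G] [Fact p.Prime] in
/-- If each generator `A i` has `[A i, C] ≤ W` and everything normalizes `W`, then
`[⨆ A i, C] ≤ W`. -/
theorem commutator_iSup_le {ι : Sort*} {A : ι → Subgroup G} {C W : Subgroup G}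
    (h : ∀ i, ⁅A i, C⁆ ≤ W) (hn : ∀ i, A i ≤ normalizer (W : Set G)) : ⁅⨆ i, A i, C⁆ ≤ W := by
  rw [commutator_le]
  intro x hx c hc
  have : x ∈ normalizer (W : Set G) ∧ ⁅x, c⁆ ∈ W := by
    induction hx using iSup_induction' with
    | hp i x hx => exact ⟨hn i hx, h i (commutator_mem_commutator hx hc)⟩
    | h1 => exact ⟨one_mem _, by simp⟩
    | hmul x y _ _ hx hy =>
      refine ⟨mul_mem hx.1 hy.1, ?_⟩
      have e : ⁅x * y, c⁆ = (x * ⁅y, c⁆ * x⁻¹) * ⁅x, c⁆ := by
        simp only [commutatorElement_def]; group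
      rw [e]
      exact mul_mem (conj_mem_of_mem_normalizer hx.1 hy.2) hx.2
  exact this.2

omit [Finite G] [Fact p.Prime] in
theorem commutator_sup_le {A B C W : Subgroup G} (hA : ⁅A, C⁆ ≤ W) (hB : ⁅B, C⁆ ≤ W)
    (hAn : A ≤ normalizer (W : Set G)) (hBn : B ≤ normalizer (W : Set G)) : ⁅A ⊔ B, C⁆ ≤ W := by
  rw [sup_eq_iSup]
  refine commutator_iSup_le ?_ ?_ <;> rintro (_ | _) <;> assumption

theorem large_commutator_weakClosure_centralizer {Q L Y : Subgroup G} (hQ : IsPGroup p Q)
    (h : IsLarge Q) (hY : IsPGroup p Y) (hY1 : Y ≠ ⊥) (hn : L ≤ normalizer (Y : Set G)) :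
    ⁅weakClosure Q L, centralizer (Y : Set G)⁆ ≤ pCoreOf p (weakClosure Q L) := by
  have hLC : L ≤ normalizer ((centralizer (Y : Set G) : Subgroup G) : Set G) :=
    le_normalizer_centralizer hn
  refine le_trans ?_ (op_inf_le_of_normalizes ((weakClosure_le Q L).trans hLC))
  refine le_inf ?_ (commutator_le_left_of_le_normalizer
    (large_centralizer_le_normalizer_weakClosure hQ h hY hY1 hn))
  rw [weakClosure_def]
  refine commutator_iSup_le (fun g => ?_) fun g => le_normalizer_pCoreOf_of_le (g.2.trans hLC)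
  have hN := large_centralizer_le_normalizer_conj hQ h hY hY1 hn g.2
  refine le_trans (le_inf (commutator_le_left_of_le_normalizer hN)
    (commutator_le_right_of_le_normalizer (g.2.trans hLC))) ?_
  exact le_pCoreOf (isPGroup_conjS hQ _).to_inf_left inf_le_right
    (le_normalizer_inf hN le_normalizer)

end CfsgLib.LocStr
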