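import Mathlib
import Cfsg.Agent.Lib.LocStr.Large
import Cfsg.Agent.Lib.LocStr.Minimal
import Cfsg.Agent.Lib.LAE.PRed
import Cfsg.Agent.Lib.Core.Frattini
import Cfsg.Agent.Lib.Core.Commutator
import Cfsg.Agent.Lib.PLocal.Thompson

/-!
Groups of parabolic characteristic `p`, the family `𝔐_G(S)` (`Cfsg.IsInFrakM`): existence and basic
properties, and the consequences of asymmetry of `Y_M`.
-/

set_option autoImplicit false
set_option linter.unusedSectionVars false

namespace CfsgLib.LocStr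

open Subgroup Cfsg CfsgLib.LAE CfsgLib.PLocal
open scoped commutatorElement Pointwise

variable {G : Type*} [Group G] {p : ℕ} [Finite G] [Fact p.Prime]

theorem isSylowIn_of_sup_eq {N X L R S : Subgroup G} (hn : X ≤ normalizer (N : Set G))
    (he : N ⊔ X = L) (hR : IsSylowIn p R N) (hRX : R ≤ X) (hS : IsSylowIn p S X) :
    IsSylowIn p S L := by
  have hX : X ≤ L := he ▸ le_sup_right
  have hidx : ¬ p ∣ X.relIndex L := by
    have h1 : (N ⊓ X).relIndex N = X.relIndex L := by
      have e1 := CfsgLib.Core.card_sup_mul_card_inf_of_le_normalizer hn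
      rw [sup_comm, he, inf_comm, ← CfsgLib.Core.card_mul_relIndex_of_le hX,
        ← CfsgLib.Core.card_mul_relIndex_of_le (inf_le_left : N ⊓ X ≤ N), mul_assoc] at e1
      have e2 := Nat.eq_of_mul_eq_mul_left Nat.card_pos e1
      rw [mul_comm] at e2
      exact (Nat.eq_of_mul_eq_mul_left Nat.card_pos e2).symm
    rw [← h1]
    exact fun hd => hR.not_dvd_relIndex (hd.trans (relIndex_dvd_of_le_left N (le_inf hR.le hRX)))
  refine isSylowIn_of_not_dvd_relIndex (hS.le.trans hX) hS.isPGroup ?_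
  rw [← relIndex_mul_relIndex S X L hS.le hX, (Fact.out : p.Prime).dvd_mul]
  exact fun h => h.elim hS.not_dvd_relIndex hidx

theorem isPClosed_sup {N U : Subgroup G} (hN : IsPClosed p N) (hU : IsPGroup p U)
    (hn : N ≤ normalizer (U : Set G)) : IsPClosed p (N ⊔ U : Subgroup G) := by
  have hS : IsPGroup p (pCoreOf p N ⊔ U : Subgroup G) :=
    isPGroup_sup (isPGroup_pCoreOf N) hU ((pCoreOf_le N).trans hn)
  have hNn : N ≤ normalizer ((pCoreOf p N ⊔ U : Subgroup G) : Set G) :=
    le_normalizer_sup (le_normalizer_pCoreOf N) hn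
  refine isPClosed_of_normal_sylow (S := pCoreOf p N ⊔ U) (isSylowIn_of_not_dvd_relIndex
    (sup_le_sup_right (pCoreOf_le N) U) hS ?_) (sup_le hNn (le_sup_right.trans le_normalizer))
  have he : N ⊔ U = N ⊔ (pCoreOf p N ⊔ U) := by rw [← sup_assoc, sup_eq_left.2 (pCoreOf_le N)]
  rw [he, relIndex_sup_of_le_normalizer hNn]
  exact fun hd => (isPClosed_iff_op.1 hN).not_dvd_relIndex
    (hd.trans (relIndex_dvd_of_le_left N le_sup_left))

omit [Fact p.Prime] in
theorem map_le_frattini_of {N M : Subgroup G} (hN : N ≤ M)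
    (h : ∀ W : Subgroup G, pCoreOf p M ≤ W → W < M → N ⊔ W ≠ M) :
    (N.subgroupOf M).map (QuotientGroup.mk' (pCore p M)) ≤ frattini (M ⧸ pCore p M) := by
  rw [CfsgLib.Core.le_frattini_iff]
  intro X hX
  by_contra hle
  have hX' : IsCoatom (X.comap (QuotientGroup.mk' (pCore p M))) :=
    Subgroup.isCoatom_comap_of_surjective (QuotientGroup.mk'_surjective _) hX
  refine h ((X.comap (QuotientGroup.mk' (pCore p M))).map M.subtype) (map_mono ?_) ?_ ?_
  · exact (QuotientGroup.ker_mk' _).ge.trans (ker_le_comap _ _)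
  · conv_rhs => rw [← range_subtype M, MonoidHom.range_eq_map]
    exact (map_lt_map_iff_of_injective M.subtype_injective).2 hX'.lt_top
  · have h1 : N.subgroupOf M ⊔ X.comap (QuotientGroup.mk' (pCore p M)) = ⊤ := by
      refine hX'.2 _ (lt_of_le_of_ne le_sup_right fun he => hle ?_)
      rw [map_le_iff_le_comap, he]
      exact le_sup_left
    have := congrArg (Subgroup.map M.subtype) h1
    rwa [Subgroup.map_sup, map_subgroupOf_eq_of_le hN, ← MonoidHom.range_eq_map, range_subtype] at this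

omit [Fact p.Prime] in
theorem eq_of_map_le_frattini {N M W : Subgroup G} (hN : N ≤ M)
    (h : (N.subgroupOf M).map (QuotientGroup.mk' (pCore p M)) ≤ frattini (M ⧸ pCore p M))
    (hO : pCoreOf p M ≤ W) (he : N ⊔ W = M) : W = M := by
  have hW : W ≤ M := he ▸ le_sup_right
  have h1 : (W.subgroupOf M).map (QuotientGroup.mk' (pCore p M)) = ⊤ := by
    refine frattini_nongenerating (top_le_iff.1 ?_)
    have h2 : N.subgroupOf M ⊔ W.subgroupOf M = ⊤ := by
      rw [← subgroupOf_sup hN hW, he, subgroupOf_self]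
    rw [← map_top_of_surjective _ (QuotientGroup.mk'_surjective (pCore p M)), ← h2, Subgroup.map_sup,
      sup_comm]
    exact sup_le_sup_left h _
  have h3 := congrArg (comap (QuotientGroup.mk' (pCore p M))) h1
  rw [comap_map_eq, QuotientGroup.ker_mk', comap_top, ← pCoreOf_subgroupOf,
    sup_eq_left.2 (subgroupOf_mono M hO), subgroupOf_eq_top] at h3
  exact le_antisymm hW h3

/-! ### Parabolic characteristic `p` -/

theorem par_centralizer_le (hG : IsOfParabolicCharacteristic p G) {S R : Subgroup G}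
    (hS : IsSylowIn p S ⊤) (hSR : S ≤ R) (h1 : pCoreOf p R ≠ ⊥) :
    centralizer (pCoreOf p R : Set G) ≤ pCoreOf p R := by
  obtain ⟨P, rfl⟩ := hS.exists_sylow_top
  have hRN := le_normalizer_pCoreOf (p := p) R
  have h2 := CfsgLib.LocStr.charP_iff.1 (hG _ (isPGroup_pCoreOf R) h1 ⟨P, hSR.trans hRN⟩)
  have h3 : pCoreOf p (normalizer (pCoreOf p R : Set G)) ≤ pCoreOf p R :=
    pCoreOf_le_pCoreOf_of_le hRN ((isSylowIn_of_le P (hSR.trans hRN)).pCoreOf_le.trans hSR)
  exact (le_inf (centralizer_le_normalizer _) (centralizer_anti h3)).trans (h2.trans h3)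

theorem par_mem (hG : IsOfParabolicCharacteristic p G) {S R : Subgroup G}
    (hS : IsSylowIn p S ⊤) (hSR : S ≤ R) (h1 : pCoreOf p R ≠ ⊥) : R ∈ charPSubgroups p G :=
  mem_charPSubgroups_iff.2 ⟨h1, par_centralizer_le hG hS hSR h1⟩

omit [Finite G] [Fact p.Prime] in
theorem isCharP_of_mem {R : Subgroup G} (h : R ∈ charPSubgroups p G) : IsCharP p R :=
  inf_le_right.trans (mem_charPSubgroups_iff.1 h).2

theorem largest_ne_bot {R : Subgroup G} (h : IsCharP p R) (h1 : pCoreOf p R ≠ ⊥) :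
    largestPReducedOf p R ≠ ⊥ := by
  obtain ⟨T, hT⟩ := exists_isSylowIn p R
  have hT1 : T ≠ ⊥ := fun he => h1 (le_bot_iff.1 (he ▸ hT.pCoreOf_le))
  exact fun he => omegaZ_ne_bot hT.isPGroup hT1 (le_bot_iff.1 (he ▸ h.omegaZ_le_largest hT))

omit [Finite G] [Fact p.Prime] in
theorem op_ne_bot_of {Y R : Subgroup G} (hY : IsPGroup p Y) (h1 : Y ≠ ⊥) (hYR : Y ≤ R)
    (hn : R ≤ normalizer (Y : Set G)) : pCoreOf p R ≠ ⊥ := fun he =>
  h1 (le_bot_iff.1 (he ▸ le_pCoreOf hY hYR hn))

omit [Fact p.Prime] in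
theorem exists_maxCharP_ge {R : Subgroup G} (h : R ∈ charPSubgroups p G) :
    ∃ X ∈ maxCharPSubgroups p G, R ≤ X := by
  obtain ⟨X, h1, h2, h3⟩ := CfsgLib.PGroup.exists_maximal_ge (· ∈ charPSubgroups p G) h
  exact ⟨X, ⟨h2, h3⟩, h1⟩

theorem exists_frakM (hG : IsOfParabolicCharacteristic p G) {T L : Subgroup G}
    (hT : IsSylowIn p T ⊤) (hTL : T ≤ L) (hL : L ∈ charPSubgroups p G) :
    ∃ M Ls : Subgroup G, T ≤ M ∧ IsInFrakM p M ∧ T ≤ Ls ∧ Ls ≤ M ∧ Ls ∈ charPSubgroups p G ∧
      largestPReducedOf p L = largestPReducedOf p Ls ∧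
      largestPReducedOf p L ≤ largestPReducedOf p M ∧
      L ⊔ centralizer (largestPReducedOf p L : Set G) =
        Ls ⊔ centralizer (largestPReducedOf p L : Set G) := by
  have hLc := isCharP_of_mem hL
  have hYL := pRedIn_largest (p := p) L
  have hYL1 := largest_ne_bot hLc (mem_charPSubgroups_iff.1 hL).1
  set C := centralizer (largestPReducedOf p L : Set G) with hC
  have mono : ∀ R X : Subgroup G, T ≤ R → R ≤ X → pCoreOf p X ≠ ⊥ →
      largestPReducedOf p R ≤ largestPReducedOf p X := fun R X h1 h2 h3 =>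
    largestPReducedOf_mono (isCharP_of_mem (par_mem hG hT (h1.trans h2) h3))
      (hT.mono (h1.trans h2) le_top) h1 h2
  -- the family
  let F : Subgroup G → Prop := fun X => T ≤ X ∧ pCoreOf p X ≠ ⊥ ∧ ((L ⊔ C) ⊓ X) ⊔ C = L ⊔ C
  have Fup : ∀ X X', F X → X ≤ X' → pCoreOf p X' ≠ ⊥ → F X' := fun X X' h h1 h2 =>
    ⟨h.1.trans h1, h2, le_antisymm (sup_le inf_le_left le_sup_right)
      (h.2.2.ge.trans (sup_le_sup_right (inf_le_inf_left _ h1) _))⟩
  have Fstar : ∀ X, F X → ∃ Ls : Subgroup G, T ≤ Ls ∧ Ls ≤ X ∧ Ls ∈ charPSubgroups p G ∧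
      largestPReducedOf p L = largestPReducedOf p Ls ∧ L ⊔ C = Ls ⊔ C := by
    intro X hX
    have hTK : T ≤ (L ⊔ C) ⊓ X := le_inf (hTL.trans le_sup_left) hX.1
    obtain ⟨-, -, h3, h4⟩ := largestPReducedOf_inf_normalizer hT hTL hTK hLc hX.2.2
    have hTs : T ≤ ((L ⊔ C) ⊓ X) ⊓ normalizer ((T ⊓ C : Subgroup G) : Set G) :=
      le_inf hTK (le_normalizer_inf le_normalizer (le_normalizer_centralizer (hTL.trans hYL.norm)))
    refine ⟨_, hTs, inf_le_left.trans inf_le_right, par_mem hG hT hTs ?_, h3.symm, ?_⟩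
    · have h5 := pRedIn_largest (p := p) (((L ⊔ C) ⊓ X) ⊓ normalizer ((T ⊓ C : Subgroup G) : Set G))
      rw [h3] at h5
      exact op_ne_bot_of h5.isPGroup hYL1 h5.le h5.norm
    · refine le_antisymm (hX.2.2.ge.trans (sup_le (h4.le.trans ?_) le_sup_right))
        (sup_le (inf_le_left.trans inf_le_left) le_sup_right)
      exact sup_le (inf_le_right.trans le_sup_right) le_sup_left
  have FL : F L := ⟨hTL, (mem_charPSubgroups_iff.1 hL).1, by rw [inf_eq_right.2 le_sup_left]⟩
  obtain ⟨X₀, hX₀, hmax⟩ := Set.exists_max_image {X | F X}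
    (fun X => Nat.card (largestPReducedOf p X)) (Set.toFinite _) ⟨L, FL⟩
  have hY₀ := pRedIn_largest (p := p) X₀
  have hY1 := largest_ne_bot (isCharP_of_mem (par_mem hG hT hX₀.1 hX₀.2.1)) hX₀.2.1
  set Y := largestPReducedOf p X₀ with hY
  have hYeq : ∀ R, F R → Y ≤ largestPReducedOf p R → largestPReducedOf p R = Y := fun R hR hle =>
    (CfsgLib.Core.eq_of_le_of_card_le hle (hmax R hR)).symm
  set X := normalizer (Y : Set G) with hX
  have hXO : pCoreOf p X ≠ ⊥ := op_ne_bot_of hY₀.isPGroup hY1 le_normalizer le_rfl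
  have FX : F X := Fup X₀ X hX₀ hY₀.norm hXO
  have hYX : largestPReducedOf p X = Y := hYeq X FX (mono X₀ X hX₀.1 hY₀.norm hXO)
  have hle_X : ∀ R, F R → Y ≤ largestPReducedOf p R → R ≤ X := fun R hR hle => by
    rw [hX, ← hYeq R hR hle]; exact (pRedIn_largest R).norm
  have hYLY : largestPReducedOf p L ≤ Y := by
    obtain ⟨Ls, h1, h2, -, h4, -⟩ := Fstar X FX
    rw [h4, ← hYX]
    exact mono Ls X h1 h2 hXO
  set D := centralizer (Y : Set G) with hD
  have hDX : D ≤ X := centralizer_le_normalizer _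
  have hXD : X ≤ normalizer (D : Set G) := normalizer_le_normalizer_centralizer Y
  have hDC : D ≤ C := centralizer_anti hYLY
  obtain ⟨M, ⟨hTM, hMD⟩, hmin⟩ := (wellFounded_lt (α := Subgroup G)).has_min
    {M | T ≤ M ∧ M ⊔ D = X} ⟨X, FX.1, sup_eq_left.2 hDX⟩
  have hMX : M ≤ X := hMD ▸ le_sup_left
  have hmin' : ∀ W, T ≤ W → W ≤ M → W ⊔ D = X → W = M := fun W h1 h2 h3 =>
    h2.eq_or_lt.resolve_right (hmin W ⟨h1, h3⟩)
  have hYT : Y ≤ T := (hT.mono FX.1 le_top).le_of_normal hY₀.isPGroup le_normalizer le_rfl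
  have hMO : pCoreOf p M ≠ ⊥ := op_ne_bot_of hY₀.isPGroup hY1 (hYT.trans hTM) hMX
  have hYM : largestPReducedOf p M = Y := by
    refine le_antisymm (hYX ▸ mono M X hTM hMX hXO) ?_
    rw [← hYX]
    refine largestPReducedOf_le_of_sup_eq hT hTM FX.1 ?_
    rw [hYX, ← hD, hMD, sup_eq_left.2 hDX]
  have FM : F M := by
    refine ⟨hTM, hMO, le_antisymm (sup_le inf_le_left le_sup_right) (FX.2.2.ge.trans
      (sup_le ?_ le_sup_right))⟩
    rw [← hMD, sup_comm M D, inf_sup_of_le_of_le_normalizer (hMX.trans hXD) (hDC.trans le_sup_right)]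
    exact sup_le (hDC.trans le_sup_right) le_sup_left
  have hXmax : X ∈ maxCharPSubgroups p G := by
    refine ⟨par_mem hG hT FX.1 hXO, fun R hR hXR => le_antisymm ?_ hXR⟩
    have hRO := (mem_charPSubgroups_iff.1 hR).1
    exact hle_X R (Fup X R FX hXR hRO) (hYX ▸ mono X R FX.1 hXR hRO)
  -- the Sylow subgroup of `C_M(Y)`
  have hT0 : IsSylowIn p (T ⊓ D) (M ⊓ D) :=
    (hT.mono hTM le_top).inf_centralizer (hTM.trans hMX)
  have hMn : M ≤ normalizer ((M ⊓ D : Subgroup G) : Set G) :=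
    le_normalizer_inf le_normalizer (hMX.trans hXD)
  have hMT0 : M ≤ normalizer ((T ⊓ D : Subgroup G) : Set G) := by
    have h1 := hT0.frattini_sup inf_le_left hMn
    have h2 := hmin' (M ⊓ normalizer ((T ⊓ D : Subgroup G) : Set G))
      (le_inf hTM (le_normalizer_inf le_normalizer (FX.1.trans hXD))) inf_le_left
      (le_antisymm (sup_le (inf_le_left.trans hMX) hDX) (hMD.ge.trans (sup_le (h1.ge.trans
        (sup_le (inf_le_right.trans le_sup_right) le_sup_left)) le_sup_right)))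
    rw [← h2]; exact inf_le_right
  obtain ⟨Ls, h1, h2, h3, h4, h5⟩ := Fstar M FM
  refine ⟨M, Ls, hTM, ⟨par_mem hG hT hTM hMO, ?_, ?_, ?_, ?_, ?_⟩, h1, h2, h3, h4, hYM ▸ hYLY, h5⟩
  · rw [hYM, ← hD, hMD]; exact hXmax
  · intro R hR hMR
    rw [hYM, ← hD, hMD]
    have hRO := (mem_charPSubgroups_iff.1 hR.1).1
    exact (hR.2 X hXmax.1 (hle_X R (Fup M R FM hMR hRO) (hYM ▸ mono M R hTM hMR hRO))).symm
  · rw [hYM, ← hD, hMD, hYX]
  · rw [hYM, ← hD]
    exact isPClosed_of_normal_sylow hT0 (inf_le_left.trans hMT0)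
  · rw [hYM, ← hD]
    refine map_le_frattini_of inf_le_left fun W hOW hW he => ?_
    obtain ⟨S, hS⟩ := exists_isSylowIn p W
    have hSM := isSylowIn_of_sup_eq (hW.le.trans hMn) he hT0
      ((le_pCoreOf hT0.isPGroup (inf_le_left.trans hTM) hMT0).trans hOW) hS
    obtain ⟨m, hm, hmS⟩ := hSM.exists_conj (hT.mono hTM le_top)
    have h6 : conjS m W = M := by
      refine hmin' _ (hmS ▸ conjS_mono hS.le) (conjS_le_of_le_of_mem hW.le hm) ?_
      have h7 : W ⊔ D = X := le_antisymm (sup_le (hW.le.trans hMX) hDX) (hMD.ge.trans (sup_le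
        (he.ge.trans (sup_le (inf_le_right.trans le_sup_right) le_sup_left)) le_sup_right))
      rw [← mem_normalizer_iff_conjS.1 (hXD (hMX hm)), ← conjS_sup, h7, conjS_eq_of_mem (hMX hm)]
    refine hW.ne (conjS_injective m ?_)
    rw [h6, conjS_eq_of_mem hm]

/-! ### The family `𝔐_G(S)` -/

/-- `M ∈ 𝔐_G(S)` in a group of parabolic characteristic `p`. -/
structure FrakM (p : ℕ) (S M : Subgroup G) : Prop where
  par : IsOfParabolicCharacteristic p G
  syl : IsSylowIn p S ⊤
  le : S ≤ M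
  mem : IsInFrakM p M

theorem frakM_of_large {Q : Subgroup G} (hQp : IsPGroup p Q) (hQ1 : Q ≠ ⊥) (hQ : IsLarge Q)
    (S : Sylow p G) {M : Subgroup G} (hSM : (S : Subgroup G) ≤ M) (hM : IsInFrakM p M) :
    FrakM p S M := ⟨large_parabolic hQp hQ1 hQ, isSylowIn_top S, hSM, hM⟩

namespace FrakM

variable {S M : Subgroup G}

theorem op_ne_bot (h : FrakM p S M) : pCoreOf p M ≠ ⊥ := (mem_charPSubgroups_iff.1 h.mem.1).1

theorem centralizer_op_le (h : FrakM p S M) : centralizer (pCoreOf p M : Set G) ≤ pCoreOf p M :=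
  (mem_charPSubgroups_iff.1 h.mem.1).2

theorem isCharP (h : FrakM p S M) : IsCharP p M := isCharP_of_mem h.mem.1

theorem pRed (_ : FrakM p S M) : PRedIn p (largestPReducedOf p M) M := pRedIn_largest M

theorem Y_ne_bot (h : FrakM p S M) : largestPReducedOf p M ≠ ⊥ :=
  largest_ne_bot h.isCharP h.op_ne_bot

theorem Y_elem (h : FrakM p S M) : IsElementaryAbelian p (largestPReducedOf p M) := h.pRed.elemAb

theorem Y_isPGroup (h : FrakM p S M) : IsPGroup p (largestPReducedOf p M) := h.pRed.isPGroup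

theorem Y_le_op (h : FrakM p S M) : largestPReducedOf p M ≤ pCoreOf p M := h.pRed.le_pCoreOf

theorem op_le_centralizer (h : FrakM p S M) :
    pCoreOf p M ≤ centralizer (largestPReducedOf p M : Set G) := h.pRed.red.pCoreOf_le_centralizer

theorem op_eq (h : FrakM p S M) :
    pCoreOf p M = S ⊓ centralizer (largestPReducedOf p M : Set G) := by
  refine le_antisymm (le_inf (h.syl.mono h.le le_top).pCoreOf_le h.op_le_centralizer) ?_
  refine (le_op_of_isPClosed h.mem.2.2.2.2.1 h.syl.isPGroup.to_inf_left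
    (inf_le_inf_right _ h.le)).trans (pCoreOf_mono_of_normal inf_le_left ?_)
  exact le_normalizer_inf le_normalizer (le_normalizer_centralizer h.pRed.norm)

theorem op_sylow (h : FrakM p S M) :
    IsSylowIn p (pCoreOf p M) (centralizer (largestPReducedOf p M : Set G)) := by
  have := h.syl.inf_centralizer (h.le.trans h.pRed.norm)
  rwa [top_inf_eq, ← h.op_eq] at this

theorem Y_eq (h : FrakM p S M) : largestPReducedOf p M = omegaZ p (pCoreOf p M) := by
  rw [h.op_eq]
  exact (largestPReducedOf_inf_normalizer h.syl h.le h.le h.isCharP rfl).1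

theorem normalizer_op_le_Y (h : FrakM p S M) :
    normalizer (pCoreOf p M : Set G) ≤ normalizer (largestPReducedOf p M : Set G) := by
  rw [h.Y_eq]; exact normalizer_le_normalizer_omegaZ _

theorem le_dagger (h : FrakM p S M) {R : Subgroup G} (hMR : M ≤ R) (h1 : pCoreOf p R ≠ ⊥) :
    R ≤ M ⊔ centralizer (largestPReducedOf p M : Set G) := by
  obtain ⟨X, hX, hRX⟩ := exists_maxCharP_ge (par_mem h.par h.syl (h.le.trans hMR) h1)
  rw [← h.mem.2.2.1 X hX (hMR.trans hRX)]
  exact hRX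

theorem normalizer_le_dagger (h : FrakM p S M) {K : Subgroup G} (hK : IsPGroup p K) (h1 : K ≠ ⊥)
    (hn : M ≤ normalizer (K : Set G)) :
    normalizer (K : Set G) ≤ M ⊔ centralizer (largestPReducedOf p M : Set G) :=
  h.le_dagger hn (op_ne_bot_of hK h1 le_normalizer le_rfl)

theorem normalizer_Y_eq (h : FrakM p S M) : normalizer (largestPReducedOf p M : Set G) =
    M ⊔ centralizer (largestPReducedOf p M : Set G) :=
  le_antisymm (h.normalizer_le_dagger h.Y_isPGroup h.Y_ne_bot h.pRed.norm)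
    (sup_le h.pRed.norm (centralizer_le_normalizer _))

/-- A `p`-subgroup centralizing `Y_M` and normalizing `O_p(M)` lies in `O_p(M)`. -/
theorem le_op (h : FrakM p S M) {R : Subgroup G} (hR : IsPGroup p R)
    (h1 : R ≤ centralizer (largestPReducedOf p M : Set G))
    (h2 : R ≤ normalizer (pCoreOf p M : Set G)) : R ≤ pCoreOf p M :=
  h.op_sylow.le_of_normalizes hR h1 h2

theorem conj_op_eq (h : FrakM p S M) {g : G} (hg : g ∈ normalizer (largestPReducedOf p M : Set G))
    (h2 : conjS g (pCoreOf p M) ≤ normalizer (pCoreOf p M : Set G)) :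
    conjS g (pCoreOf p M) = pCoreOf p M := by
  refine mem_normalizer_iff_conjS.1 (mem_normalizer_of_conjS_le (h.le_op
    (isPGroup_conjS (isPGroup_pCoreOf M) g) ?_ h2))
  rw [← mem_normalizer_iff_conjS.1 hg, ← conjS_centralizer]
  exact conjS_mono h.op_le_centralizer

end FrakM

/-! ### Asymmetric subgroups -/

omit [Finite G] [Fact p.Prime] in
theorem asym_le_centralizer {Y : Subgroup G} (h : ¬ IsSymmetricIn Y) {a b : G}
    (h1 : conjS a Y ≤ normalizer (conjS b Y : Set G))
    (h2 : conjS b Y ≤ normalizer (conjS a Y : Set G)) :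
    conjS a Y ≤ centralizer (conjS b Y : Set G) := by
  rw [← commutator_eq_bot_iff_le_centralizer]
  by_contra hne
  apply h
  refine ⟨a⁻¹ * b, ?_, ?_⟩
  · rw [← conjS_def]
    intro he
    apply hne
    rw [← conjS_eq_bot_iff (g := a⁻¹), conjS_commutator, conjS_inv_conjS, ← conjS_mul, he]
  · rw [← conjS_def, ← conjS_le_conjS_iff (g := a), conjS_commutator, conjS_inf, ← conjS_mul,
      mul_inv_cancel_left]
    exact le_inf (commutator_le_left_of_le_normalizer h2) (commutator_le_right_of_le_normalizer h1)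

omit [Finite G] [Fact p.Prime] in
theorem asym_elemAb_nclIn {Y R K : Subgroup G} (h : ¬ IsSymmetricIn Y) (hY : IsElementaryAbelian p Y)
    (hYR : Y ≤ R) (hR : R ≤ normalizer (Y : Set G)) (hK : K ≤ normalizer (R : Set G)) :
    IsElementaryAbelian p (nclIn Y K) := by
  have key : ∀ a ∈ K, ∀ b ∈ K, conjS a Y ≤ normalizer (conjS b Y : Set G) := by
    intro a ha b hb
    rw [← conjS_normalizer]
    refine le_trans ?_ (conjS_mono hR)
    rw [mem_normalizer_iff_conjS.1 (hK hb), ← mem_normalizer_iff_conjS.1 (hK ha)]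
    exact conjS_mono hYR
  exact elemAb_iSup (fun a => elemAb_map hY _) fun a b =>
    asym_le_centralizer h (key a a.2 b b.2) (key b b.2 a a.2)

namespace FrakM

variable {S M : Subgroup G}

theorem wc_op (h : FrakM p S M) (hs : ¬ IsSymmetricIn (largestPReducedOf p M)) :
    IsWeaklyClosedSubgroup p (pCoreOf p M) := by
  set O := pCoreOf p M with hO
  set Y := largestPReducedOf p M with hY
  let A : Set G := {x | conjS x O ≤ normalizer (O : Set G) ∧ O ≤ normalizer (conjS x O : Set G)}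
  have key : ∀ d : G, conjS d Y ≤ normalizer (O : Set G) → Y ≤ normalizer (conjS d O : Set G) →
      conjS d Y ≤ O ∧ Y ≤ conjS d O := by
    intro d h1 h2
    have h3 : conjS d Y ≤ normalizer (conjS 1 Y : Set G) := by
      rw [conjS_one]; exact h1.trans h.normalizer_op_le_Y
    have h4 : conjS 1 Y ≤ normalizer (conjS d Y : Set G) := by
      rw [conjS_one, ← conjS_normalizer]
      rw [← conjS_normalizer] at h2
      exact h2.trans (conjS_mono h.normalizer_op_le_Y)
    have h5 := asym_le_centralizer hs h3 h4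
    rw [conjS_one] at h5
    refine ⟨h.le_op (isPGroup_conjS h.Y_isPGroup d) h5 h1, ?_⟩
    rw [le_conjS_iff]
    refine h.le_op (isPGroup_conjS h.Y_isPGroup _) ?_ ?_
    · rw [← le_conjS_iff, conjS_centralizer]; exact le_centralizer_iff.1 h5
    · rw [← le_conjS_iff, conjS_normalizer]; exact h2
  have path : ∀ n : ℕ, ∀ d ∈ A ^ n, conjS d Y ≤ O ∧ Y ≤ conjS d O := by
    intro n
    induction n with
    | zero =>
      intro d hd
      rw [pow_zero, Set.mem_one] at hd
      rw [hd, conjS_one, conjS_one]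
      exact ⟨h.Y_le_op, h.Y_le_op⟩
    | succ n ih =>
      intro d hd
      refine key d ?_ ?_
      · rw [pow_succ'] at hd
        obtain ⟨x, hx, t, ht, rfl⟩ := hd
        rw [conjS_mul]
        exact (conjS_mono (ih t ht).1).trans hx.1
      · rw [pow_succ] at hd
        obtain ⟨t, ht, x, hx, rfl⟩ := hd
        rw [conjS_mul, ← conjS_normalizer]
        exact (ih t ht).2.trans (conjS_mono hx.2)
  let K : Subgroup G := ⨆ d : {d : G // ∃ n : ℕ, d ∈ A ^ n}, conjS (d : G) Y
  have hKO : K ≤ O := iSup_le fun d => by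
    obtain ⟨n, hn⟩ := d.2
    exact (path n d hn).1
  have hYK : Y ≤ K := by
    have := le_iSup (fun d : {d : G // ∃ n : ℕ, d ∈ A ^ n} => conjS (d : G) Y)
      ⟨1, 0, by rw [pow_zero]; exact Set.mem_one.2 rfl⟩
    rwa [conjS_one] at this
  have hAK : ∀ x ∈ A, x ∈ normalizer (K : Set G) := by
    intro x hx
    refine mem_normalizer_of_conjS_le ?_
    rw [conjS_iSup]
    refine iSup_le fun d => ?_
    obtain ⟨n, hn⟩ := d.2
    rw [← conjS_mul]
    exact le_iSup (fun d : {d : G // ∃ n : ℕ, d ∈ A ^ n} => conjS (d : G) Y)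
      ⟨x * d, n + 1, by rw [pow_succ']; exact Set.mul_mem_mul hx hn⟩
  have hNK : normalizer (K : Set G) ≤ normalizer (Y : Set G) := by
    rw [h.normalizer_Y_eq]
    refine h.normalizer_le_dagger ((isPGroup_pCoreOf M).to_le hKO)
      (fun he => h.Y_ne_bot (le_bot_iff.1 (he ▸ hYK))) fun m hm => hAK m ?_
    have := mem_normalizer_iff_conjS.1 (le_normalizer_pCoreOf (p := p) M hm)
    show conjS m O ≤ _ ∧ O ≤ normalizer (conjS m O : Set G)
    rw [this]
    exact ⟨le_normalizer, le_normalizer⟩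
  refine wc_of_commutator (isPGroup_pCoreOf M) fun g hg => ?_
  have hgA : g ∈ A := ⟨CfsgLib.Core.le_normalizer_of_commutator_le (hg.trans inf_le_left),
    CfsgLib.Core.le_normalizer_of_commutator_le ((commutator_comm _ _).le.trans
      (hg.trans inf_le_right))⟩
  exact h.conj_op_eq (hNK (hAK g hgA)) hgA.1

/-- A `p`-subgroup normalized by `O_p(M)` normalizes `O_p(M)` and `Y_M`. -/
theorem le_normalizer_op (h : FrakM p S M) (hs : ¬ IsSymmetricIn (largestPReducedOf p M))
    {R : Subgroup G} (hR : IsPGroup p R) (hn : pCoreOf p M ≤ normalizer (R : Set G)) :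
    R ≤ normalizer (pCoreOf p M : Set G) := wc_le_normalizer_of_normalizes (h.wc_op hs) hR hn

theorem exists_sylow (h : FrakM p S M) (hs : ¬ IsSymmetricIn (largestPReducedOf p M))
    {L : Subgroup G} (hL : pCoreOf p M ≤ L) : ∃ T, IsSylowIn p T L ∧ pCoreOf p M ≤ T ∧
      T ≤ normalizer (pCoreOf p M : Set G) := wc_exists_sylow_le_normalizer (h.wc_op hs) hL

theorem exists_conj_of_mem (h : FrakM p S M) (hs : ¬ IsSymmetricIn (largestPReducedOf p M))
    {x g : G} (hx : x ∈ largestPReducedOf p M) (hg : g * x * g⁻¹ ∈ largestPReducedOf p M) :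
    ∃ m ∈ M, m * x * m⁻¹ = g * x * g⁻¹ := by
  have h1 : pCoreOf p M ≤ centralizer ({x} : Set G) := fun r hr =>
    mem_centralizer_singleton_iff.2 (mem_centralizer_iff.1 (h.op_le_centralizer hr) x hx).symm
  have h2 : conjS g⁻¹ (pCoreOf p M) ≤ centralizer ({x} : Set G) := by
    rw [conjS_le_iff_forall]
    intro r hr
    have := mem_centralizer_iff.1 (h.op_le_centralizer hr) _ hg
    rw [mem_centralizer_singleton_iff]
    calc g⁻¹ * r * g⁻¹⁻¹ * x = g⁻¹ * (r * (g * x * g⁻¹)) * g := by group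
      _ = x * (g⁻¹ * r * g⁻¹⁻¹) := by rw [← this]; group
  obtain ⟨c, hc, he⟩ := wc_exists_conj_eq (h.wc_op hs) h1 h2
  have h3 : g * c ∈ normalizer (pCoreOf p M : Set G) := by
    rw [mem_normalizer_iff_conjS, conjS_mul, ← he, conjS_conjS_inv]
  have h4 := h.normalizer_op_le_Y h3
  rw [h.normalizer_Y_eq, mem_sup_iff_of_left_le_normalizer
    (le_normalizer_centralizer h.pRed.norm)] at h4
  obtain ⟨m, hm, d, hd, hmd⟩ := h4
  refine ⟨m, hm, ?_⟩
  have h5 := mem_centralizer_iff.1 hd x hx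
  have h6 := mem_centralizer_singleton_iff.1 hc
  calc m * x * m⁻¹ = m * (x * d) * (m * d)⁻¹ := by group
    _ = (m * d) * x * (m * d)⁻¹ := by rw [h5]; group
    _ = g * (c * x) * c⁻¹ * g⁻¹ := by rw [← hmd]; group
    _ = g * x * g⁻¹ := by rw [h6]; group

end FrakM

end CfsgLib.LocStr
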