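import Mathlib
import Cfsg.Agent.Lib.LocStr.FrakM

/-!
The family `ℌ_G(O_p(M))` (`Cfsg.IsInFrakH`) when `Y_M` is asymmetric; `p`-irreducibility in ambient form.
-/

set_option autoImplicit false
set_option linter.unusedSectionVars false

namespace CfsgLib.LocStr

open Subgroup Cfsg CfsgLib.LAE CfsgLib.PLocal
open scoped commutatorElement Pointwise

variable {G : Type*} [Group G] {p : ℕ} [Finite G] [Fact p.Prime]

omit [Finite G] [Fact p.Prime] in
theorem isPIrreducible_of {X : Subgroup G} (h1 : ¬ IsPClosed p X)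
    (h2 : ∀ N ≤ X, X ≤ normalizer (N : Set G) → ¬ IsPClosed p N → pResOf p X ≤ N) :
    IsPIrreducible p X := by
  refine ⟨h1, fun N hN hc => ?_⟩
  have := h2 (N.map X.subtype) (map_subtype_le N) (le_normalizer_map_subtype N)
    (by rwa [isPClosed_map_iff X.subtype_injective])
  rwa [pResOf_def, map_le_map_iff_of_injective X.subtype_injective] at this

/-- If `[N, O^p(N)] ≤ U` for a `p`-group `U` normalized by `N`, then `N` is `p`-closed. -/
theorem isPClosed_of_commutator_le {N U : Subgroup G} (hU : IsPGroup p U)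
    (hn : N ≤ normalizer (U : Set G)) (h : ⁅N, pResOf p N⁆ ≤ U) : IsPClosed p N := by
  obtain ⟨T, hT⟩ := exists_isSylowIn p N
  refine isPClosed_of_normal_sylow hT (hT.le_of_pResOf_le ?_ le_normalizer)
  refine CfsgLib.Core.le_normalizer_of_commutator_le ?_
  refine (le_inf ((commutator_mono hT.le le_rfl).trans h)
    (CfsgLib.Core.commutator_le_of_le hT.le (pResOf_le N))).trans ?_
  exact hT.le_of_normal hU.to_inf_left inf_le_right (le_normalizer_inf hn le_normalizer)

omit [Finite G] [Fact p.Prime] in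
theorem nclIn_sup_of_le_normalizer {A H Q : Subgroup G} (hQ : Q ≤ normalizer (A : Set G))
    (hn : H ≤ normalizer (Q : Set G)) : nclIn A (H ⊔ Q) = nclIn A H := by
  refine le_antisymm (nclIn_le_iff.2 fun g hg => ?_) (nclIn_mono le_rfl le_sup_left)
  obtain ⟨a, ha, b, hb, rfl⟩ := (mem_sup_iff_of_left_le_normalizer hn).1 hg
  rw [conjS_mul, mem_normalizer_iff_conjS.1 (hQ hb)]
  exact conjS_le_nclIn ha

/-- `H ∈ ℌ_G(O_p(M))` for `M ∈ 𝔐_G(S)` with `Y_M` asymmetric. -/
structure FrakH (p : ℕ) (S M H : Subgroup G) : Prop extends FrakM p S M where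
  asym : ¬ IsSymmetricIn (largestPReducedOf p M)
  memH : IsInFrakH p M H

namespace FrakH

variable {S M H : Subgroup G}

theorem charH (h : FrakH p S M H) : IsCharP p H := isCharP_iff.2 h.memH.1

theorem op_le_H (h : FrakH p S M H) : pCoreOf p M ≤ H := h.memH.2.1

theorem Y_le_H (h : FrakH p S M H) : largestPReducedOf p M ≤ H := h.Y_le_op.trans h.op_le_H

theorem Y_not_le (h : FrakH p S M H) : ¬ largestPReducedOf p M ≤ pCoreOf p H := h.memH.2.2.1

theorem eq_or_le (h : FrakH p S M H) {P : Subgroup G} (h1 : pCoreOf p M ≤ P) (h2 : P ≤ H) :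
    P = H ∨ largestPReducedOf p M ≤ pCoreOf p P := h2.eq_or_lt.imp id (h.memH.2.2.2 P h1)

theorem opH_le_normalizer (h : FrakH p S M H) :
    pCoreOf p H ≤ normalizer (pCoreOf p M : Set G) :=
  h.le_normalizer_op h.asym (isPGroup_pCoreOf H) (h.op_le_H.trans (le_normalizer_pCoreOf H))

theorem opH_le_normalizer_Y (h : FrakH p S M H) :
    pCoreOf p H ≤ normalizer (largestPReducedOf p M : Set G) :=
  h.opH_le_normalizer.trans h.normalizer_op_le_Y

theorem nclIn_op (h : FrakH p S M H) : nclIn (pCoreOf p M) H = H :=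
  (h.eq_or_le (le_nclIn _ _) (nclIn_le_of_le h.op_le_H)).resolve_right fun hle =>
    h.Y_not_le (hle.trans (pCoreOf_mono_of_normal (nclIn_le_of_le h.op_le_H) (le_normalizer_nclIn _ _)))

theorem pResOf_sup_op (h : FrakH p S M H) : pResOf p H ⊔ pCoreOf p M = H := by
  obtain ⟨T, hT, -, hn⟩ := h.exists_sylow h.asym h.op_le_H
  refine le_antisymm (sup_le (pResOf_le H) h.op_le_H) (h.nclIn_op.ge.trans (nclIn_le le_sup_right ?_))
  exact le_normalizer_of_pResOf_le hT le_sup_left
    (le_normalizer_sup (hT.le.trans (le_normalizer_pResOf H)) hn)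

theorem nclIn_Y_eq (h : FrakH p S M H) : nclIn (largestPReducedOf p M) H =
    ⁅pResOf p H, largestPReducedOf p M⁆ ⊔ largestPReducedOf p M := by
  rw [nclIn_eq_commutator_sup]
  congr 1
  conv_lhs => rw [← h.pResOf_sup_op]
  exact CfsgLib.Core.commutator_sup_left_of_le_centralizer h.op_le_centralizer
    (le_normalizer_commutator (h.op_le_H.trans (le_normalizer_pResOf H))
      (le_normalizer.trans h.normalizer_op_le_Y))

theorem commutator_pResOf (h : FrakH p S M H) :
    ⁅pResOf p H, largestPReducedOf p M⁆ = pResOf p H := by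
  have hK : ⁅pResOf p H, largestPReducedOf p M⁆ ≤ pResOf p H :=
    commutator_le_left_of_le_normalizer (h.Y_le_H.trans (le_normalizer_pResOf H))
  refine le_antisymm hK ?_
  rcases h.eq_or_le (P := ⁅pResOf p H, largestPReducedOf p M⁆ ⊔ pCoreOf p M) le_sup_right
    (sup_le (hK.trans (pResOf_le H)) h.op_le_H) with he | hle
  · exact pResOf_le_of_le_sup (isPGroup_pCoreOf M)
      (le_normalizer_commutator (h.op_le_H.trans (le_normalizer_pResOf H))
        (le_normalizer.trans h.normalizer_op_le_Y)) he.ge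
  · refine absurd ?_ h.Y_not_le
    have h1 : nclIn (largestPReducedOf p M) H ≤ ⁅pResOf p H, largestPReducedOf p M⁆ ⊔ pCoreOf p M := by
      rw [h.nclIn_Y_eq]; exact sup_le_sup_left h.Y_le_op _
    exact ((le_inf hle (le_nclIn _ _)).trans (op_inf_le h1)).trans
      (pCoreOf_mono_of_normal (nclIn_le_of_le h.Y_le_H) (le_normalizer_nclIn _ _))

theorem pResOf_sup_Y (h : FrakH p S M H) :
    pResOf p H ⊔ largestPReducedOf p M = nclIn (largestPReducedOf p M) H := by
  rw [h.nclIn_Y_eq, h.commutator_pResOf]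

theorem isSylowIn (h : FrakH p S M H) {T : Subgroup G}
    (hT : IsSylowIn p T (H ⊓ normalizer (largestPReducedOf p M : Set G))) : IsSylowIn p T H := by
  obtain ⟨P, hP, -, hn⟩ := h.exists_sylow h.asym h.op_le_H
  exact hT.of_le_of_isSylowIn hP (le_inf hP.le (hn.trans h.normalizer_op_le_Y)) inf_le_left

theorem not_isPClosed (h : FrakH p S M H) : ¬ IsPClosed p H := fun hc =>
  h.Y_not_le (le_op_of_isPClosed hc h.Y_isPGroup h.Y_le_H)

/-- A normal subgroup of `H` contains `O^p(H)` or centralizes it modulo `O_p(H)`. -/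
theorem pResOf_le_or (h : FrakH p S M H) {N : Subgroup G} (hN : N ≤ H)
    (hn : H ≤ normalizer (N : Set G)) : pResOf p H ≤ N ∨ ⁅N, pResOf p H⁆ ≤ pCoreOf p H := by
  rcases h.eq_or_le (P := N ⊔ pCoreOf p M) le_sup_right (sup_le hN h.op_le_H) with he | hle
  · exact Or.inl (pResOf_le_of_le_sup (isPGroup_pCoreOf M) (h.op_le_H.trans hn) he.ge)
  · right
    have h1 : ⁅largestPReducedOf p M, N⁆ ≤ pCoreOf p H := by
      refine le_trans (le_inf ?_ (commutator_le_right_of_le_normalizer (h.Y_le_H.trans hn)))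
        ((op_inf_le (le_sup_left : N ≤ N ⊔ pCoreOf p M)).trans (pCoreOf_mono_of_normal hN hn))
      exact (commutator_mono hle le_rfl).trans (commutator_le_left_of_le_normalizer
        (le_sup_left.trans (le_normalizer_pCoreOf _)))
    have h2 := commutator_nclIn_le (h.Y_le_H.trans (le_normalizer_pCoreOf H)) hn
      (le_normalizer_pCoreOf H) h1
    rw [commutator_comm]
    exact (commutator_mono (h.pResOf_sup_Y ▸ le_sup_left) le_rfl).trans h2

theorem pResOf_le_or_isPClosed (h : FrakH p S M H) {N : Subgroup G} (hN : N ≤ H)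
    (hn : H ≤ normalizer (N : Set G)) : pResOf p H ≤ N ∨ IsPClosed p N :=
  (h.pResOf_le_or hN hn).imp id fun hc => isPClosed_of_commutator_le (isPGroup_pCoreOf H)
    (hN.trans (le_normalizer_pCoreOf H)) ((commutator_mono le_rfl (pResOf_mono hN)).trans hc)

end FrakH

end CfsgLib.LocStr
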