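import Mathlib
import Cfsg.Agent.Lib.LocStr.FrakH
import Cfsg.Agent.Lib.LocStr.Minimal
import Cfsg.Agent.Lib.Frob.Zipper
import Cfsg.Agent.Lib.LAE.PIrr

/-!
Minimal subgroups `L` of `H ∈ ℌ_G(O_p(M))` with `Y_M ≤ L`, `Y_M ≰ O_p(L)` in the asymmetric case.
-/

set_option autoImplicit false
set_option linter.unusedSectionVars false

namespace CfsgLib.LocStr

open Subgroup Cfsg CfsgLib.LAE
open scoped commutatorElement

variable {G : Type*} [Group G] {p : ℕ} [Finite G] [Fact p.Prime]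

theorem exists_minOver_of_min {Y L : Subgroup G} (hY : IsPGroup p Y) (hYL : Y ≤ L)
    (hYO : ¬ Y ≤ pCoreOf p L) (hmin : ∀ L' ≤ L, Y ≤ L' → ¬ Y ≤ pCoreOf p L' → L' = L) :
    ∃ L₀, MinOver Y L L₀ ∧ Y ≤ pCoreOf p L₀ := by
  have key : ∀ X, Y ≤ X → X < L → Y ≤ pCoreOf p X := fun X h1 h2 => by
    by_contra h
    exact h2.ne (hmin X h2.le h1 h)
  obtain ⟨M, hM, hmax⟩ := CfsgLib.Frob.zipper (A := Y.subgroupOf L) (fun K hK hne => by
    have h1 : Y ≤ K.map L.subtype := by
      rw [← map_subgroupOf_eq_of_le hYL]; exact map_mono hK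
    have h2 : K.map L.subtype < L := by
      refine lt_of_le_of_ne (map_subtype_le K) fun e => hne ?_
      rw [← comap_map_eq_self_of_injective L.subtype_injective K, e]
      exact subgroupOf_self L
    have h3 := key _ h1 h2
    rw [← map_subtype_pCoreOf, ← map_subgroupOf_eq_of_le hYL,
      map_le_map_iff_of_injective L.subtype_injective] at h3
    exact ((subnormalIn_of_isPGroup (isPGroup_pCoreOf K) h3).trans
      (SubnormalIn.of_normal (pCoreOf_le K) (le_normalizer_pCoreOf K))).isSubnormal)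
    (fun h => hYO ((subnormalIn_iff.2 ⟨hYL, h⟩).le_pCoreOf hY))
  have hlt : M.map L.subtype < L := by
    refine lt_of_le_of_ne (map_subtype_le M) fun e => hM.1 ?_
    rw [← comap_map_eq_self_of_injective L.subtype_injective M, e]
    exact subgroupOf_self L
  have hm : ∀ X, Y ≤ X → X < L → X ≤ M.map L.subtype := fun X h1 h2 => by
    rw [← map_subgroupOf_eq_of_le h2.le]
    refine map_mono (hmax _ (subgroupOf_mono L h1) fun e => h2.not_ge ?_)
    exact subgroupOf_eq_top.1 e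
  have hYM : Y ≤ M.map L.subtype := hm Y le_rfl (lt_of_le_of_ne hYL fun e =>
    hYO (by rw [← e, pCoreOf_eq_self hY]))
  refine ⟨_, ⟨hYM, hlt, hm, fun N h1 h2 h3 => ?_⟩, key _ hYM hlt⟩
  by_contra h
  exact hYO ((key N h1 (lt_of_le_not_ge h2 h)).trans (pCoreOf_mono_of_normal h2 h3))

/-- The abstract asymmetric setting. -/
structure Asy (p : ℕ) (Y O H L L₀ : Subgroup G) : Prop extends MinOver Y L L₀ where
  elem : IsElementaryAbelian p Y
  YO : Y ≤ O
  cent : O ≤ centralizer (Y : Set G)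
  wc : IsWeaklyClosedSubgroup p O
  norm : normalizer (O : Set G) ≤ normalizer (Y : Set G)
  asym : ∀ a b : G, conjS a Y ≤ normalizer (conjS b Y : Set G) →
    conjS b Y ≤ normalizer (conjS a Y : Set G) → conjS a Y ≤ centralizer (conjS b Y : Set G)
  charH : IsCharP p H
  OH : O ≤ H
  LH : L ≤ H
  eqOr : ∀ P, O ≤ P → P ≤ H → P = H ∨ Y ≤ pCoreOf p P
  op0 : Y ≤ pCoreOf p L₀

namespace Asy

variable {Y O H L L₀ : Subgroup G}

theorem conj (h : Asy p Y O H L L₀) {l : G} (hl : l ∈ L) :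
    Asy p (conjS l Y) (conjS l O) H L (conjS l L₀) where
  toMinOver := by
    have := h.toMinOver.conj l
    rwa [conjS_eq_of_mem hl] at this
  elem := CfsgLib.PLocal.elemAb_map h.elem _
  YO := conjS_mono h.YO
  cent := by rw [← conjS_centralizer]; exact conjS_mono h.cent
  wc := wc_conj h.wc l
  norm := by rw [← conjS_normalizer, ← conjS_normalizer]; exact conjS_mono h.norm
  asym := fun a b => by
    rw [← conjS_mul, ← conjS_mul]; exact h.asym _ _
  charH := h.charH
  OH := conjS_le_of_le_of_mem h.OH (h.LH hl)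
  LH := h.LH
  eqOr := fun P h1 h2 => by
    have hl' := inv_mem (h.LH hl)
    rcases h.eqOr (conjS l⁻¹ P) (conjS_le_iff.1 h1) (conjS_le_of_le_of_mem h2 hl') with e | e
    · left
      rw [← conjS_conjS_inv l P, e, conjS_eq_of_mem (h.LH hl)]
    · right
      rw [conjS_le_iff, conjS_pCoreOf]; exact e
  op0 := by rw [← conjS_pCoreOf]; exact conjS_mono h.op0

theorem pY (h : Asy p Y O H L L₀) : IsPGroup p Y := isPGroup_iff_forall_mem.2 fun x hx =>
  ⟨1, by rw [pow_one]; exact h.elem.2 x hx⟩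

theorem YY (h : Asy p Y O H L L₀) : Y ≤ centralizer (Y : Set G) := h.YO.trans h.cent

theorem YH (h : Asy p Y O H L L₀) : Y ≤ H := h.YO.trans h.OH

theorem op_le_normalizer (h : Asy p Y O H L L₀) {P : Subgroup G} (hP : O ≤ P) :
    pCoreOf p P ≤ normalizer (Y : Set G) :=
  (wc_le_normalizer_of_normalizes h.wc (isPGroup_pCoreOf P)
    (hP.trans (le_normalizer_pCoreOf P))).trans h.norm

theorem AY (h : Asy p Y O H L L₀) : pCoreOf p H ≤ normalizer (Y : Set G) := h.op_le_normalizer h.OH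

theorem comm_AY (h : Asy p Y O H L L₀) : ⁅pCoreOf p H, Y⁆ ≤ Y ⊓ pCoreOf p H :=
  le_inf (commutator_le_right_of_le_normalizer h.AY)
    (commutator_le_left_of_le_normalizer (h.YH.trans (le_normalizer_pCoreOf H)))

theorem conj_B (h : Asy p Y O H L L₀) {l : G} (hl : l ∈ L) :
    conjS l (Y ⊓ pCoreOf p H) = conjS l Y ⊓ pCoreOf p H := by
  rw [conjS_inf, mem_normalizer_iff_conjS.1 (le_normalizer_pCoreOf H (h.LH hl))]

theorem L_sup (h : Asy p Y O H L L₀) : L ⊔ O = H := by
  refine (h.eqOr _ le_sup_right (sup_le h.LH h.OH)).resolve_right fun e => ?_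
  exact h.not_le_op h.pY ((le_inf e h.le_top').trans (op_inf_le le_sup_left))

theorem conj_sup (h : Asy p Y O H L L₀) {g : G} (hg : g ∈ L) (hg0 : g ∉ L₀) :
    conjS g Y ⊔ O = H := by
  refine le_antisymm (sup_le (h.conj hg).YH h.OH) ?_
  rw [← h.L_sup, ← h.sup_conj hg hg0]
  exact sup_le (sup_le (h.YO.trans le_sup_right) le_sup_left) le_sup_right

theorem sup_conjO (h : Asy p Y O H L L₀) {g : G} (hg : g ∈ L) (hg0 : g ∉ L₀) :
    Y ⊔ conjS g O = H := by
  refine le_antisymm (sup_le h.YH (h.conj hg).OH) ?_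
  rw [← (h.conj hg).L_sup, ← h.sup_conj hg hg0]
  exact sup_le (sup_le le_sup_left ((h.conj hg).YO.trans le_sup_right)) le_sup_right

theorem not_isPGroup (h : Asy p Y O H L L₀) : ¬ IsPGroup p L := fun e =>
  h.not_le_op h.pY (by rw [pCoreOf_eq_self e]; exact h.le_top')

theorem exists_not_mem (h : Asy p Y O H L L₀) : ∃ g ∈ L, g ∉ L₀ :=
  SetLike.not_le_iff_exists.1 h.not_le

theorem D_le (h : Asy p Y O H L L₀) : nclIn (Y ⊓ pCoreOf p H) L ≤ pCoreOf p H :=
  nclIn_le inf_le_right (h.LH.trans (le_normalizer_pCoreOf H))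

theorem conjB_le (h : Asy p Y O H L L₀) {l : G} (hl : l ∈ L) :
    conjS l Y ⊓ pCoreOf p H ≤ nclIn (Y ⊓ pCoreOf p H) L := by
  rw [← h.conj_B hl]; exact conjS_le_nclIn hl

theorem comm_AL (h : Asy p Y O H L L₀) {g : G} (hg : g ∈ L) (hg0 : g ∉ L₀) :
    ⁅pCoreOf p H, L⁆ ≤ (Y ⊓ pCoreOf p H) ⊔ (conjS g Y ⊓ pCoreOf p H) := by
  have h1 := h.comm_AY.trans (le_sup_left (b := conjS g Y ⊓ pCoreOf p H))
  have h2 := (h.conj hg).comm_AY.trans (le_sup_right (a := Y ⊓ pCoreOf p H))
  have h3 : (Y ⊓ pCoreOf p H) ⊔ (conjS g Y ⊓ pCoreOf p H) ≤ pCoreOf p H :=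
    sup_le inf_le_right inf_le_right
  conv_lhs => rw [← h.sup_conj hg hg0]
  exact commutator_sup_le'
    (le_normalizer_iff_commutator_le_left.2 ((commutator_mono h3 le_rfl).trans h1))
    (le_normalizer_iff_commutator_le_left.2 ((commutator_mono h3 le_rfl).trans h2)) h1 h2

theorem D_eq (h : Asy p Y O H L L₀) {g : G} (hg : g ∈ L) (hg0 : g ∉ L₀) :
    nclIn (Y ⊓ pCoreOf p H) L = (Y ⊓ pCoreOf p H) ⊔ (conjS g Y ⊓ pCoreOf p H) :=
  le_antisymm (nclIn_le le_sup_left (le_normalizer_iff_commutator_le_left.2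
    ((commutator_mono (sup_le inf_le_right inf_le_right) le_rfl).trans (h.comm_AL hg hg0))))
    (sup_le (le_nclIn _ _) (h.conjB_le hg))

theorem comm_AL_D (h : Asy p Y O H L L₀) : ⁅pCoreOf p H, L⁆ ≤ nclIn (Y ⊓ pCoreOf p H) L := by
  obtain ⟨g, hg, hg0⟩ := h.exists_not_mem
  rw [h.D_eq hg hg0]; exact h.comm_AL hg hg0

theorem D_conj (h : Asy p Y O H L L₀) {l : G} (hl : l ∈ L) :
    nclIn (conjS l Y ⊓ pCoreOf p H) L = nclIn (Y ⊓ pCoreOf p H) L := by
  rw [← h.conj_B hl, ← mem_normalizer_iff_conjS.1 (le_normalizer_nclIn (Y ⊓ pCoreOf p H) L hl),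
    conjS_nclIn, conjS_eq_of_mem hl]

theorem Z_conj (_ : Asy p Y O H L L₀) {l : G} (hl : l ∈ L) :
    conjS l Y ⊓ centralizer (L : Set G) = Y ⊓ centralizer (L : Set G) := by
  ext x
  simp only [mem_inf, mem_conjS]
  refine and_congr_left fun hx => ?_
  rw [mul_assoc, ← hx l hl, inv_mul_cancel_left]

theorem Z_eq (h : Asy p Y O H L L₀) {g : G} (hg : g ∈ L) (hg0 : g ∉ L₀) :
    Y ⊓ conjS g Y = Y ⊓ centralizer (L : Set G) := h.inf_conj_eq h.YY hg hg0

theorem Z_le (h : Asy p Y O H L L₀) : Y ⊓ centralizer (L : Set G) ≤ centralizer (H : Set G) := by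
  conv_rhs => rw [← h.L_sup, CfsgLib.LAE.centralizer_sup]
  exact le_inf inf_le_right (inf_le_left.trans (le_centralizer_iff.1 h.cent))

theorem Z_le_A (h : Asy p Y O H L L₀) : Y ⊓ centralizer (L : Set G) ≤ pCoreOf p H :=
  h.charH.le_pCoreOf (inf_le_left.trans h.YH) (h.Z_le.trans (centralizer_anti (pCoreOf_le H)))

theorem H_norm_Z (h : Asy p Y O H L L₀) :
    H ≤ normalizer ((Y ⊓ centralizer (L : Set G) : Subgroup G) : Set G) :=
  (le_centralizer_iff.1 h.Z_le).trans (centralizer_le_normalizer _)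

theorem mem_of_comm (h : Asy p Y O H L L₀) {d : G} (hd : d ∈ nclIn (Y ⊓ pCoreOf p H) L)
    (hc : ∀ y ∈ Y, ⁅d, y⁆ ∈ Y ⊓ centralizer (L : Set G)) : d ∈ Y := by
  obtain ⟨g, hg, hg0⟩ := h.exists_not_mem
  have h' := h.conj hg
  rw [h.D_eq hg hg0, mem_sup_iff_of_left_le_normalizer
    (inf_le_right.trans (le_normalizer_inf h'.AY le_normalizer))] at hd
  obtain ⟨b, hb, c, hc', rfl⟩ := hd
  refine mul_mem hb.1 ?_
  set Z := Y ⊓ centralizer (L : Set G) with hZ
  have h1 : ⁅zpowers c, Y⁆ ≤ Z := by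
    rw [zpowers_eq_closure]
    refine commutator_closure_le ((closure_le _).2 ?_) ?_
    · rintro _ rfl
      exact h.H_norm_Z (pCoreOf_le H hc'.2)
    · rintro _ ⟨⟩ y hy
      have h2 := conj_inv_mem_of_mem_normalizer (h.H_norm_Z (h.YH hb.1)) (hc y hy)
      have h3 : b * y = y * b := (h.YY hy b hb.1)
      have : b⁻¹ * ⁅b * c, y⁆ * b = ⁅c, y⁆ := by
        have h4 : y * b⁻¹ = b⁻¹ * y := by
          rw [mul_inv_eq_iff_eq_mul, mul_assoc, ← h3, inv_mul_cancel_left]
        simp only [commutatorElement_def, mul_inv_rev]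
        calc b⁻¹ * (b * c * y * (c⁻¹ * b⁻¹) * y⁻¹) * b = c * y * c⁻¹ * (b⁻¹ * y⁻¹ * b) := by group
          _ = c * y * c⁻¹ * y⁻¹ := by
            rw [show b⁻¹ * y⁻¹ * b = y⁻¹ by
              rw [← mul_inv_rev, ← h3, mul_inv_rev, inv_mul_cancel_right]]
      exact this ▸ h2
  have hZg : Z ≤ conjS g Y := by rw [hZ, ← h.Z_eq hg hg0]; exact inf_le_right
  have hX : zpowers c ⊔ Z ≤ conjS g Y := sup_le ((zpowers_le).2 hc'.1) hZg
  have hn : L ≤ normalizer ((zpowers c ⊔ Z : Subgroup G) : Set G) := by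
    rw [← h.sup_conj hg hg0]
    refine sup_le (le_normalizer_iff_commutator_le_left.2 (le_trans ?_ le_sup_right))
      ((le_centralizer_iff.1 (hX.trans h'.YY)).trans (centralizer_le_normalizer _))
    exact CfsgLib.LAE.commutator_sup_le ((zpowers_le.2 (pCoreOf_le H hc'.2)).trans h.H_norm_Z)
      le_normalizer h1 (commutator_le_left_of_le_normalizer (h.YH.trans h.H_norm_Z))
  have h5 : zpowers c ⊔ Z ≤ Y := by
    rw [← conjS_le_conjS_iff (g := g), mem_normalizer_iff_conjS.1 (hn hg)]; exact hX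
  exact h5 (mem_sup_left (mem_zpowers c))

theorem not_D_le (h : Asy p Y O H L L₀) :
    ¬ nclIn (Y ⊓ pCoreOf p H) L ≤ Y ⊓ centralizer (L : Set G) := fun e =>
  h.not_isPGroup (h.charH.isPGroup_of_commutator_le h.LH
    ((commutator_mono le_rfl (pResOf_le L)).trans (h.comm_AL_D.trans e))
    ((pResOf_le L).trans (le_centralizer_iff.1 inf_le_right)))

theorem conj_le_centralizer (h : Asy p Y O H L L₀) {x : G} (hx : x ∈ L₀) :
    conjS x Y ≤ centralizer (Y : Set G) := by
  have hxL := h.lt.le hx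
  have h' := h.conj hxL
  have hR : Y ⊔ conjS x Y ≤ pCoreOf p L₀ := sup_le h.op0 (by
    have := h'.op0
    rwa [conjS_eq_of_mem hx] at this)
  have hn : Y ⊔ conjS x Y ≤ normalizer (nclIn (Y ⊓ pCoreOf p H) L : Set G) :=
    (sup_le h.le_top' h'.le_top').trans (le_normalizer_nclIn _ _)
  obtain ⟨n, hn'⟩ := exists_iterCommutator_eq_bot_of_isPGroup
    ((isPGroup_pCoreOf H).to_le h.D_le) ((isPGroup_pCoreOf L₀).to_le hR) hn
  obtain ⟨d, hd, hdZ, hc⟩ := exists_mem_not_mem_commutator_mem hn hn' h.not_D_le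
  have h1 : d ∈ Y := h.mem_of_comm hd fun y hy => hc y (mem_sup_left hy)
  have h2 : d ∈ conjS x Y := h'.mem_of_comm (by rwa [h.D_conj hxL]) fun y hy => by
    rw [h.Z_conj hxL]; exact hc y (mem_sup_right hy)
  have hne : O ⊔ conjS x O ≠ H := fun e => hdZ ⟨h1, centralizer_anti h.LH (by
    rw [← e, CfsgLib.LAE.centralizer_sup]
    exact ⟨le_centralizer_iff.1 h.cent h1, le_centralizer_iff.1 h'.cent h2⟩)⟩
  have hP := sup_le h.OH h'.OH
  have h3 := (h.eqOr _ le_sup_left hP).resolve_left hne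
  have h4 := (h'.eqOr _ le_sup_right hP).resolve_left hne
  have := h.asym x 1 (by rw [conjS_one]; exact h4.trans (h.op_le_normalizer le_sup_left))
    (by rw [conjS_one]; exact h3.trans (h'.op_le_normalizer le_sup_right))
  rwa [conjS_one] at this

theorem mem_of_cent (h : Asy p Y O H L L₀) {d : G} (hd : d ∈ nclIn (Y ⊓ pCoreOf p H) L)
    (hc : d ∈ centralizer (Y : Set G)) : d ∈ Y :=
  h.mem_of_comm hd fun y hy => by
    rw [commutatorElement_eq_one_iff_mul_comm.2 (hc y hy).symm]; exact one_mem _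

theorem L0_norm_B (h : Asy p Y O H L L₀) :
    L₀ ≤ normalizer ((Y ⊓ pCoreOf p H : Subgroup G) : Set G) := fun x hx =>
  mem_normalizer_of_conjS_le (by
    rw [h.conj_B (h.lt.le hx)]
    exact fun d hd => ⟨h.mem_of_cent (h.conjB_le (h.lt.le hx) hd)
      (h.conj_le_centralizer hx hd.1), hd.2⟩)

theorem P_norm_B (h : Asy p Y O H L L₀) :
    O ⊔ L₀ ≤ normalizer ((Y ⊓ pCoreOf p H : Subgroup G) : Set G) :=
  sup_le (le_normalizer_inf (le_normalizer.trans h.norm) (h.OH.trans (le_normalizer_pCoreOf H)))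
    h.L0_norm_B

theorem le_op_P (h : Asy p Y O H L L₀) : Y ≤ pCoreOf p (O ⊔ L₀) := by
  refine (h.eqOr _ le_sup_left (sup_le h.OH (h.lt.le.trans h.LH))).resolve_left fun e => ?_
  obtain ⟨g, hg, hg0⟩ := h.exists_not_mem
  have h1 := h.P_norm_B
  rw [e] at h1
  refine h.not_D_le ((nclIn_le le_rfl (h.LH.trans h1)).trans ?_)
  rw [← h.Z_eq hg hg0]
  refine le_inf inf_le_left ?_
  rw [← mem_normalizer_iff_conjS.1 (h1 (h.LH hg))]
  exact conjS_mono inf_le_left

theorem comm_AO (h : Asy p Y O H L L₀) : ⁅pCoreOf p H, O⁆ ≤ centralizer (Y : Set G) := by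
  rw [← commutator_eq_bot_iff_le_centralizer]
  refine commutator_commutator_eq_bot_of_rotate ?_ ?_
  · rw [commutator_eq_bot_iff_le_centralizer.2 h.cent, commutator_bot_left]
  · rw [commutator_eq_bot_iff_le_centralizer, commutator_comm]
    exact h.comm_AY.trans (inf_le_left.trans (le_centralizer_iff.1 h.cent))

theorem comm_AH (h : Asy p Y O H L L₀) {g : G} (hg : g ∈ L) (hg0 : g ∉ L₀) :
    ⁅pCoreOf p H, H⁆ ≤ (pCoreOf p H ⊓ centralizer (Y : Set G)) ⊔ (conjS g Y ⊓ pCoreOf p H) := by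
  have h1 : ⁅pCoreOf p H, O⁆ ≤
      (pCoreOf p H ⊓ centralizer (Y : Set G)) ⊔ (conjS g Y ⊓ pCoreOf p H) :=
    (le_inf (commutator_le_left_of_le_normalizer (h.OH.trans (le_normalizer_pCoreOf H)))
      h.comm_AO).trans le_sup_left
  have h2 := (h.conj hg).comm_AY.trans (le_sup_right (a := pCoreOf p H ⊓ centralizer (Y : Set G)))
  have h3 : (pCoreOf p H ⊓ centralizer (Y : Set G)) ⊔ (conjS g Y ⊓ pCoreOf p H) ≤ pCoreOf p H :=
    sup_le inf_le_left inf_le_right
  have := commutator_sup_le'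
    (le_normalizer_iff_commutator_le_left.2 ((commutator_mono h3 le_rfl).trans h2))
    (le_normalizer_iff_commutator_le_left.2 ((commutator_mono h3 le_rfl).trans h1)) h2 h1
  rwa [h.conj_sup hg hg0] at this

theorem E_le (h : Asy p Y O H L L₀) {x : G} (hx : x ∈ L₀) :
    ⁅pCoreOf p H, H⁆ ⊓ centralizer (Y : Set G) ≤ centralizer (conjS x Y : Set G) := by
  obtain ⟨g, hg, hg0⟩ := h.exists_not_mem
  have h' := h.conj hg
  have h1 := h'.comm_AH (inv_mem hg) (by
    rw [mem_conjS, mul_assoc, inv_mul_cancel, mul_one, inv_mem_iff]; exact hg0)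
  rw [conjS_inv_conjS] at h1
  rintro e ⟨he, hc⟩
  obtain ⟨a, ha, b, hb, rfl⟩ := (mem_sup_iff_of_left_le_normalizer
    (inf_le_left.trans (le_normalizer_inf h.AY le_normalizer))).1 (h1 he)
  have h2 : a ∈ centralizer (L : Set G) := by
    rw [← h.sup_conj hg hg0, CfsgLib.LAE.centralizer_sup]
    exact ⟨(mul_mem_cancel_right (h.YY hb.1)).1 hc, ha.2⟩
  exact mul_mem (centralizer_anti (h.conj (h.lt.le hx)).le_top' h2)
    (le_centralizer_iff.1 (h.conj_le_centralizer hx) hb.1)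

theorem P_norm_E (h : Asy p Y O H L L₀) :
    O ⊔ L₀ ≤ normalizer ((⁅pCoreOf p H, H⁆ ⊓ centralizer (Y : Set G) : Subgroup G) : Set G) := by
  have h1 : H ≤ normalizer ((⁅pCoreOf p H, H⁆ : Subgroup G) : Set G) :=
    le_normalizer_commutator (le_normalizer_pCoreOf H) le_normalizer
  refine sup_le (le_normalizer_inf (h.OH.trans h1)
    (le_normalizer_centralizer (le_normalizer.trans h.norm))) fun x hx =>
      mem_normalizer_of_conjS_le ?_
  rw [conjS_le_iff, conjS_inf, conjS_centralizer,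
    mem_normalizer_iff_conjS.1 (h1 (inv_mem (h.LH (h.lt.le hx))))]
  exact le_inf inf_le_left (h.E_le (inv_mem hx))

theorem comm_KY (h : Asy p Y O H L L₀) : ⁅nclIn O (O ⊔ L₀), Y⁆ ≤ pCoreOf p H := by
  have hP : O ⊔ L₀ ≤ H := sup_le h.OH (h.lt.le.trans h.LH)
  have hK : nclIn O (O ⊔ L₀) ≤ H := (nclIn_le_of_le le_sup_left).trans hP
  refine h.charH.le_pCoreOf ((commutator_mono hK h.YH).trans (commutator_le_self H)) ?_
  rw [← commutator_eq_bot_iff_le_centralizer]
  refine commutator_commutator_eq_bot_of_rotate ?_ ?_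
  · rw [commutator_eq_bot_iff_le_centralizer, commutator_comm]
    exact h.comm_AY.trans (le_centralizer_nclIn
      (inf_le_left.trans (le_centralizer_iff.1 h.cent)) h.P_norm_B)
  · rw [commutator_eq_bot_iff_le_centralizer, commutator_comm]
    refine (commutator_nclIn_le (le_sup_left.trans h.P_norm_E)
      (hP.trans (le_normalizer_pCoreOf H)) h.P_norm_E ?_).trans inf_le_right
    rw [commutator_comm]
    exact le_inf (commutator_mono le_rfl h.OH) h.comm_AO

theorem K_norm (h : Asy p Y O H L L₀) : nclIn O (O ⊔ L₀) ≤ normalizer (Y : Set G) := by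
  have hP : O ⊔ L₀ ≤ H := sup_le h.OH (h.lt.le.trans h.LH)
  set P := O ⊔ L₀ with hPdef
  set K := nclIn O P
  set U := nclIn Y P
  have hKP : K ≤ P := nclIn_le_of_le le_sup_left
  have hUO : U ≤ pCoreOf p P := nclIn_le h.le_op_P (le_normalizer_pCoreOf P)
  have hUp : IsPGroup p U := (isPGroup_pCoreOf P).to_le hUO
  have hn : ∀ a ∈ P, pCoreOf p P ≤ normalizer (conjS a Y : Set G) := fun a ha => by
    rw [← conjS_normalizer, ← mem_normalizer_iff_conjS.1 (le_normalizer_pCoreOf P ha)]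
    exact conjS_mono (h.op_le_normalizer le_sup_left)
  have hUY : U ≤ centralizer (Y : Set G) := nclIn_le_iff.2 fun a ha => by
    have := h.asym a 1 (((conjS_le_nclIn ha).trans hUO).trans (hn 1 (one_mem _)))
      (((conjS_le_nclIn (one_mem P)).trans hUO).trans (hn a ha))
    rwa [conjS_one] at this
  have hPU : P ≤ normalizer (U : Set G) := le_normalizer_nclIn _ _
  have hPF : P ≤ normalizer ((U ⊓ pCoreOf p H : Subgroup G) : Set G) :=
    le_normalizer_inf hPU (hP.trans (le_normalizer_pCoreOf H))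
  have hYP : Y ≤ P := h.YO.trans le_sup_left
  have h1 : ⁅U, K⁆ ≤ U ⊓ pCoreOf p H := by
    refine commutator_nclIn_le (hYP.trans hPF) (le_normalizer_nclIn _ _) hPF (le_inf ?_ ?_)
    · exact (commutator_mono (le_nclIn _ _) le_rfl).trans
        (commutator_le_left_of_le_normalizer (hKP.trans hPU))
    · rw [commutator_comm]; exact h.comm_KY
  have h2 : ⁅nclIn L₀ P, U ⊓ pCoreOf p H⁆ ≤ Y ⊓ pCoreOf p H := by
    refine commutator_nclIn_le h.L0_norm_B hPF h.P_norm_B fun d hd => ?_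
    have h3 := commutator_le_right_of_le_normalizer (le_sup_right.trans hPF) hd
    refine ⟨h.mem_of_cent (h.comm_AL_D ?_) (hUY h3.1), h3.2⟩
    rw [commutator_comm] at hd
    exact commutator_mono inf_le_right h.lt.le hd
  have h3 : pResOf p K ≤ nclIn L₀ P := (pResOf_mono hKP).trans
    (pResOf_le_of_le_sup (wc_isPGroup h.wc) (le_sup_left.trans (le_normalizer_nclIn _ _))
      (sup_le le_sup_right ((le_nclIn _ _).trans le_sup_left)))
  have h4 : pResOf p K ≤ centralizer ((U ⊓ pCoreOf p H : Subgroup G) : Set G) := by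
    refine pResOf_le_centralizer_of_le (hUp.to_le inf_le_left) (hKP.trans hPF)
      (X := Y ⊓ pCoreOf p H) ?_ ((pResOf_le K).trans (nclIn_le_centralizer
        (h.cent.trans (centralizer_anti inf_le_left)) h.P_norm_B))
    rw [commutator_comm]
    exact (commutator_mono h3 le_rfl).trans h2
  have h5 := pResOf_le_centralizer_of_le hUp (hKP.trans hPU)
    ((commutator_mono le_rfl (pResOf_le K)).trans h1) h4
  obtain ⟨T, hT, -, hTn⟩ := wc_exists_sylow_le_normalizer h.wc (le_nclIn O P)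
  exact hT.le_of_pResOf_le ((h5.trans (centralizer_anti (le_nclIn _ _))).trans
    (centralizer_le_normalizer _)) (hTn.trans h.norm)

theorem L0_norm (h : Asy p Y O H L L₀) : L₀ ≤ normalizer (Y : Set G) := fun x hx => by
  obtain ⟨k, hk, e⟩ := wc_exists_conj_eq h.wc (le_nclIn O (O ⊔ L₀))
    (conjS_le_nclIn (mem_sup_right hx))
  have : k⁻¹ * x ∈ normalizer (O : Set G) := by
    rw [mem_normalizer_iff_conjS, conjS_mul, e, conjS_inv_conjS]
  exact (mul_mem_cancel_left (inv_mem (h.K_norm hk))).1 (h.norm this)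

theorem L0_eq (h : Asy p Y O H L L₀) : L ⊓ normalizer (Y : Set G) = L₀ :=
  le_antisymm (h.inf_normalizer_le_of_le le_rfl h.le) (le_inf h.lt.le h.L0_norm)

theorem charL (h : Asy p Y O H L L₀) : IsCharP p L :=
  h.charH.of_commutator_le h.LH ((commutator_mono le_rfl (pResOf_le L)).trans
    (h.comm_AL_D.trans (nclIn_le_of_le (inf_le_left.trans h.le_top'))))

theorem inf_op_le (h : Asy p Y O H L L₀) : pCoreOf p L ⊓ Y ≤ pCoreOf p H := by
  obtain ⟨g, hg, hg0⟩ := h.exists_not_mem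
  have h' := h.conj hg
  set Z := Y ⊓ centralizer (L : Set G) with hZ
  have hXH : pCoreOf p L ⊓ Y ≤ H := inf_le_right.trans h.YH
  have hA : H ≤ normalizer ((⁅pCoreOf p H, H⁆ : Subgroup G) : Set G) :=
    le_normalizer_commutator (le_normalizer_pCoreOf H) le_normalizer
  have h1 : ⁅pCoreOf p L ⊓ Y, ⁅pCoreOf p H, H⁆⁆ ≤ Z := by
    refine (commutator_mono le_rfl (h.comm_AH hg hg0)).trans (commutator_sup_le'
      ((inf_le_left.trans (pCoreOf_le H)).trans h.H_norm_Z)
      ((inf_le_right.trans (pCoreOf_le H)).trans h.H_norm_Z) ?_ ?_)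
    · rw [commutator_eq_bot_iff_le_centralizer.2
        (inf_le_right.trans (le_centralizer_iff.1 inf_le_right))]
      exact bot_le
    · rw [hZ, ← h.Z_eq hg hg0]
      refine le_inf ((commutator_mono inf_le_right inf_le_right).trans
        (commutator_le_left_of_le_normalizer h.AY))
        ((commutator_mono inf_le_left inf_le_left).trans
          (commutator_le_right_of_le_normalizer ((h'.op_le h'.pY).trans h'.L0_norm)))
  have h2 := commutator_nclIn_le (hXH.trans h.H_norm_Z) hA h.H_norm_Z h1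
  have hN : nclIn (pCoreOf p L ⊓ Y) H ≤ H := nclIn_le_of_le hXH
  have h3 := pResOf_le_centralizer_of_le (R := nclIn (pCoreOf p L ⊓ Y) H)
    ((isPGroup_pCoreOf (p := p) H).to_le
      (commutator_le_left_of_le_normalizer (le_normalizer_pCoreOf H))) (hN.trans hA) (X := Z)
    (by rw [commutator_comm]; exact (commutator_mono (pResOf_le _) le_rfl).trans h2)
    (((pResOf_le _).trans hN).trans (le_centralizer_iff.1 h.Z_le))
  exact (le_nclIn _ H).trans (le_pCoreOf (h.charH.isPGroup_of_commutator_le hN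
    (commutator_mono le_rfl ((pResOf_le _).trans hN)) h3) hN (le_normalizer_nclIn _ _))

theorem chief (h : Asy p Y O H L L₀) {V W : Subgroup G} (hV : V ≤ pCoreOf p H)
    (hVn : H ≤ normalizer (V : Set G)) (hWn : H ≤ normalizer (W : Set G)) (hWV : W < V)
    (hc : ∀ Z : Subgroup G, H ≤ normalizer (Z : Set G) → W ≤ Z → Z ≤ V → Z = W ∨ Z = V)
    (h1 : ⁅V, pResOf p L⁆ ≤ W) : ⁅V, H⁆ ≤ W := by
  have hR : pResOf p L ≤ H := (pResOf_le L).trans h.LH
  have h2 : ⁅nclIn (pResOf p L) H, V⁆ ≤ W :=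
    commutator_nclIn_le (hR.trans hWn) hVn hWn (by rwa [commutator_comm])
  have hH : H ≤ nclIn (pResOf p L) H ⊔ O := by
    conv_lhs => rw [← h.L_sup, ← h.pResOf_sup h.pY]
    exact sup_le (sup_le ((le_nclIn _ _).trans le_sup_left) (h.YO.trans le_sup_right)) le_sup_right
  obtain ⟨n, hn⟩ := exists_iterCommutator_eq_bot_of_isPGroup
    ((isPGroup_pCoreOf H).to_le hV) (wc_isPGroup h.wc) (h.OH.trans hVn)
  obtain ⟨v, hv, hvW, hvc⟩ := exists_mem_not_mem_commutator_mem (h.OH.trans hVn) hn hWV.not_ge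
  have hvn : zpowers v ≤ normalizer (W : Set G) := zpowers_le.2 (hWn (pCoreOf_le H (hV hv)))
  have h3 : ⁅zpowers v ⊔ W, H⁆ ≤ W := by
    refine CfsgLib.LAE.commutator_sup_le hvn le_normalizer ?_
      (commutator_le_left_of_le_normalizer hWn)
    refine (commutator_mono le_rfl hH).trans (commutator_sup_le'
      ((nclIn_le_of_le hR).trans hWn) (h.OH.trans hWn) ?_ ?_)
    · rw [commutator_comm]; exact (commutator_mono le_rfl (zpowers_le.2 hv)).trans h2
    · rw [zpowers_eq_closure] at hvn ⊢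
      exact commutator_closure_le hvn (by rintro _ rfl; exact hvc)
  rcases hc (zpowers v ⊔ W) (le_normalizer_iff_commutator_le_left.2 (h3.trans le_sup_right))
    le_sup_right (sup_le (zpowers_le.2 hv) hWV.le) with e | e
  · exact absurd (e.le (mem_sup_left (mem_zpowers v))) hvW
  · rwa [e] at h3

end Asy

end CfsgLib.LocStr
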