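import Mathlib
import Cfsg.Agent.Lib.LocStr.Minimal
import Cfsg.Agent.Lib.LAE.PRed
import Cfsg.Agent.Lib.Core.Commutator
import Cfsg.Agent.Lib.Core.Frattini
import Cfsg.Agent.Lib.PLocal.Thompson

/-!
A `Y`-minimal group `L` with `Y` elementary abelian and normalized by `O_p(L)`: structure of the normal
closure `A` of `B = O_p(L) ∩ Y`.
-/

set_option autoImplicit false
set_option linter.unusedSectionVars false

namespace CfsgLib.LocStr

open Subgroup Cfsg CfsgLib.LAE CfsgLib.PLocal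
open scoped commutatorElement

variable {G : Type*} [Group G] {p : ℕ}

/-- `L` is `Y`-minimal, `Y` is elementary abelian and normalized by `O_p(L)`. -/
structure MinA (p : ℕ) (Y L L₀ : Subgroup G) : Prop extends MinOver Y L L₀ where
  elem : IsElementaryAbelian p Y
  norm : pCoreOf p L ≤ normalizer (Y : Set G)

namespace MinA

variable [Finite G] [Fact p.Prime] {Y L L₀ : Subgroup G}

theorem isPGroup (h : MinA p Y L L₀) : IsPGroup p Y := elemAb_isPGroup h.elem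

theorem conj_op {g : G} (hg : g ∈ L) : conjS g (pCoreOf p L) = pCoreOf p L :=
  mem_normalizer_iff_conjS.1 (le_normalizer_pCoreOf L hg)

theorem conj_B {g : G} (hg : g ∈ L) :
    conjS g (pCoreOf p L ⊓ Y) = pCoreOf p L ⊓ conjS g Y := by
  rw [conjS_inf, conj_op hg]

theorem norm_conj (h : MinA p Y L L₀) {g : G} (hg : g ∈ L) :
    pCoreOf p L ≤ normalizer (conjS g Y : Set G) := by
  rw [← conjS_normalizer, ← conj_op (p := p) hg]
  exact conjS_mono h.norm

theorem conj (h : MinA p Y L L₀) {g : G} (hg : g ∈ L) : MinA p (conjS g Y) L (conjS g L₀) := by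
  have h1 := h.toMinOver.conj g
  rw [conjS_eq_of_mem hg] at h1
  exact ⟨h1, elemAb_map h.elem _, h.norm_conj hg⟩

theorem commutator_op_le (h : MinA p Y L L₀) : ⁅pCoreOf p L, Y⁆ ≤ pCoreOf p L ⊓ Y :=
  le_inf (commutator_le_left_of_le_normalizer (h.le_top'.trans (le_normalizer_pCoreOf L)))
    (commutator_le_right_of_le_normalizer h.norm)

/-- `Y` normalizes every subgroup between `B` and `O_p(L)`. -/
theorem le_normalizer_of_le (h : MinA p Y L L₀) {X : Subgroup G} (h1 : pCoreOf p L ⊓ Y ≤ X)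
    (h2 : X ≤ pCoreOf p L) : Y ≤ normalizer (X : Set G) :=
  CfsgLib.Core.le_normalizer_of_commutator_le_of_le (h.commutator_op_le.trans h1) h2

theorem nclIn_eq (h : MinA p Y L L₀) {g : G} (hg : g ∈ L) (hg0 : g ∉ L₀) :
    nclIn (pCoreOf p L ⊓ Y) L = (pCoreOf p L ⊓ Y) ⊔ (pCoreOf p L ⊓ conjS g Y) := by
  refine le_antisymm (nclIn_le le_sup_left ?_) (sup_le (le_nclIn _ _) ?_)
  · rw [← h.sup_conj hg hg0]
    have hle : (pCoreOf p L ⊓ Y) ⊔ (pCoreOf p L ⊓ conjS g Y) ≤ pCoreOf p L :=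
      sup_le inf_le_left inf_le_left
    refine sup_le ?_ ?_
    · rw [h.sup_conj hg hg0]; exact h.le_normalizer_of_le le_sup_left hle
    · rw [h.sup_conj hg hg0]; exact (h.conj hg).le_normalizer_of_le le_sup_right hle
  · rw [← conj_B hg]; exact conjS_le_nclIn hg

theorem nclIn_le_op (_ : MinA p Y L L₀) : nclIn (pCoreOf p L ⊓ Y) L ≤ pCoreOf p L :=
  nclIn_le inf_le_left (le_normalizer_pCoreOf L)

theorem nclIn_inf (h : MinA p Y L L₀) {g : G} (hg : g ∈ L) :
    nclIn (pCoreOf p L ⊓ Y) L ⊓ conjS g Y = pCoreOf p L ⊓ conjS g Y := by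
  refine le_antisymm (inf_le_inf_right _ h.nclIn_le_op) (le_inf ?_ inf_le_right)
  rw [← conj_B hg]; exact conjS_le_nclIn hg

theorem nclIn_inf_self (h : MinA p Y L L₀) :
    nclIn (pCoreOf p L ⊓ Y) L ⊓ Y = pCoreOf p L ⊓ Y := by
  simpa [conjS_one] using h.nclIn_inf L.one_mem

theorem inf_conj (h : MinA p Y L L₀) {g : G} (hg : g ∈ L) (hg0 : g ∉ L₀) :
    Y ⊓ conjS g Y = Y ⊓ centralizer (L : Set G) :=
  h.inf_conj_eq (elemAb_le_centralizer h.elem) hg hg0

theorem center_le_op (h : MinA p Y L L₀) : Y ⊓ centralizer (L : Set G) ≤ pCoreOf p L := by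
  refine le_pCoreOf h.isPGroup.to_inf_left (inf_le_left.trans h.le_top') ?_
  exact (le_centralizer_iff.1 inf_le_right).trans (centralizer_le_normalizer _)

theorem conj_center (_ : MinA p Y L L₀) {g : G} (hg : g ∈ L) :
    conjS g Y ⊓ centralizer (L : Set G) = Y ⊓ centralizer (L : Set G) := by
  ext y
  simp only [mem_inf, mem_conjS]
  refine and_congr_left fun hc => ?_
  rw [mul_assoc, ← mem_centralizer_iff.1 hc g hg, inv_mul_cancel_left]

theorem commutator_B_le (h : MinA p Y L L₀) {g : G} (hg : g ∈ L) (hg0 : g ∉ L₀) :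
    ⁅pCoreOf p L ⊓ Y, pCoreOf p L ⊓ conjS g Y⁆ ≤ Y ⊓ centralizer (L : Set G) := by
  rw [← h.inf_conj hg hg0]
  refine le_inf ?_ ?_
  · rw [commutator_comm]
    exact (commutator_mono inf_le_left inf_le_right).trans (h.commutator_op_le.trans inf_le_right)
  · exact (commutator_mono inf_le_left inf_le_right).trans
      ((h.conj hg).commutator_op_le.trans inf_le_right)

theorem commutator_eq (h : MinA p Y L L₀) {g : G} (hg : g ∈ L) (hg0 : g ∉ L₀) :
    ⁅nclIn (pCoreOf p L ⊓ Y) L, nclIn (pCoreOf p L ⊓ Y) L⁆ =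
      ⁅pCoreOf p L ⊓ Y, pCoreOf p L ⊓ conjS g Y⁆ := by
  rw [h.nclIn_eq hg hg0]
  refine le_antisymm ?_ (commutator_mono le_sup_left le_sup_right)
  have hn : ∀ X ≤ L, X ≤ normalizer
      ((⁅pCoreOf p L ⊓ Y, pCoreOf p L ⊓ conjS g Y⁆ : Subgroup G) : Set G) := fun X hX =>
    (hX.trans (le_centralizer_iff.1 ((h.commutator_B_le hg hg0).trans inf_le_right))).trans
      (centralizer_le_normalizer _)
  have h1 : pCoreOf p L ⊓ Y ≤ L := inf_le_left.trans (pCoreOf_le L)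
  have h2 : pCoreOf p L ⊓ conjS g Y ≤ L := inf_le_left.trans (pCoreOf_le L)
  have hab : ∀ X : Subgroup G, IsElementaryAbelian p X → ∀ W : Subgroup G,
      ⁅pCoreOf p L ⊓ X, pCoreOf p L ⊓ X⁆ ≤ W := fun X hX W => by
    rw [commutator_eq_bot_iff_le_centralizer.2 (elemAb_le_centralizer (elemAb_mono hX inf_le_right))]
    exact bot_le
  refine LAE.commutator_sup_le (hn _ h1) (hn _ h2)
    (commutator_sup_le' (hn _ h1) (hn _ h2) (hab _ h.elem _) le_rfl)
    (commutator_sup_le' (hn _ h1) (hn _ h2) (commutator_comm _ _).le (hab _ (h.conj hg).elem _))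

theorem mem_nclIn_iff (h : MinA p Y L L₀) {g : G} (hg : g ∈ L) (hg0 : g ∉ L₀) {a : G} :
    a ∈ nclIn (pCoreOf p L ⊓ Y) L ↔
      ∃ b ∈ pCoreOf p L ⊓ Y, ∃ c ∈ pCoreOf p L ⊓ conjS g Y, a = b * c := by
  rw [h.nclIn_eq hg hg0]
  exact mem_sup_iff_of_left_le_normalizer
    (le_normalizer_inf (inf_le_left.trans le_normalizer) (inf_le_left.trans (h.norm_conj hg)))

theorem exists_not_mem (h : MinA p Y L L₀) : ∃ g ∈ L, g ∉ L₀ := SetLike.exists_of_lt h.lt

theorem commutator_le_center (h : MinA p Y L L₀) :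
    ⁅nclIn (pCoreOf p L ⊓ Y) L, nclIn (pCoreOf p L ⊓ Y) L⁆ ≤ Y ⊓ centralizer (L : Set G) := by
  obtain ⟨g, hg, hg0⟩ := h.exists_not_mem
  rw [h.commutator_eq hg hg0]
  exact h.commutator_B_le hg hg0

theorem pow_mem_commutator (h : MinA p Y L L₀) {a : G} (ha : a ∈ nclIn (pCoreOf p L ⊓ Y) L) :
    a ^ p ∈ ⁅nclIn (pCoreOf p L ⊓ Y) L, nclIn (pCoreOf p L ⊓ Y) L⁆ := by
  obtain ⟨g, hg, hg0⟩ := h.exists_not_mem
  obtain ⟨b, hb, c, hc, rfl⟩ := (h.mem_nclIn_iff hg hg0).1 ha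
  have hbA : b ∈ nclIn (pCoreOf p L ⊓ Y) L := le_nclIn _ _ hb
  have hcA : c ∈ nclIn (pCoreOf p L ⊓ Y) L := by
    rw [h.nclIn_eq hg hg0]; exact mem_sup_right hc
  have hcb := commutator_mem_commutator hcA hbA
  have hZ := (h.commutator_le_center hcb).2
  rw [CfsgLib.Core.mul_pow_of_commute_commutatorElement
    (mem_centralizer_iff.1 hZ b (pCoreOf_le L hb.1)) (mem_centralizer_iff.1 hZ c (pCoreOf_le L hc.1)),
    h.elem.2 b hb.2, (h.conj hg).elem.2 c hc.2, mul_one, mul_one]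
  exact pow_mem hcb _

theorem frattini_eq (h : MinA p Y L L₀) :
    (frattini (nclIn (pCoreOf p L ⊓ Y) L)).map (nclIn (pCoreOf p L ⊓ Y) L).subtype =
      ⁅nclIn (pCoreOf p L ⊓ Y) L, nclIn (pCoreOf p L ⊓ Y) L⁆ := by
  have hA : IsPGroup p (nclIn (pCoreOf p L ⊓ Y) L) := (isPGroup_pCoreOf L).to_le h.nclIn_le_op
  exact le_antisymm ((CfsgLib.Core.map_frattini_le_iff_of_isPGroup hA).2
    ⟨le_rfl, fun _ ha => h.pow_mem_commutator ha⟩) (CfsgLib.Core.commutator_le_map_frattini hA)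

/-- An element of `A` centralizing `Y` lies in `Y`. -/
theorem mem_of_centralizes (h : MinA p Y L L₀) {a : G} (ha : a ∈ nclIn (pCoreOf p L ⊓ Y) L)
    (hc : a ∈ centralizer (Y : Set G)) : a ∈ Y := by
  obtain ⟨g, hg, hg0⟩ := h.exists_not_mem
  obtain ⟨b, hb, c, hc', rfl⟩ := (h.mem_nclIn_iff hg hg0).1 ha
  have h1 : c ∈ centralizer (Y : Set G) := by
    simpa using mul_mem (inv_mem (elemAb_le_centralizer h.elem hb.2)) hc
  have h2 : c ∈ centralizer (L : Set G) := by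
    rw [← h.sup_conj hg hg0, centralizer_sup]
    exact ⟨h1, elemAb_le_centralizer (h.conj hg).elem hc'.2⟩
  have h3 : c ∈ Y ⊓ centralizer (L : Set G) := h.conj_center hg ▸ ⟨hc'.2, h2⟩
  exact mul_mem hb.2 h3.1

theorem nclIn_inf_center (h : MinA p Y L L₀) :
    nclIn (pCoreOf p L ⊓ Y) L ⊓ centralizer (L : Set G) = Y ⊓ centralizer (L : Set G) :=
  le_antisymm (fun _ ha => ⟨h.mem_of_centralizes ha.1 (centralizer_anti h.le_top' ha.2), ha.2⟩)
    (le_inf ((le_inf h.center_le_op inf_le_left).trans (le_nclIn _ _)) inf_le_right)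

end MinA

end CfsgLib.LocStr
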