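import Mathlib
import Cfsg.Agent.Lib.LocStr.Basic
import Cfsg.Agent.Lib.SL2.Normalizer
import Cfsg.Agent.Lib.Sz.Normalizers
import Cfsg.Agent.Lib.Sz.Models

/-!
The rank one quotients `SL₂(q)`, `Sz(q)`, `D_{2r}` of the members of `𝔏_G(Y_M)`.
-/

set_option autoImplicit false
set_option linter.unusedSectionVars false

namespace CfsgLib.LocStr

open Subgroup Cfsg CfsgLib.LAE
open scoped MatrixGroups

variable {X : Type*} [Group X] {p : ℕ}

/-- Every non-`p`-element satisfies each predicate with three closure properties. -/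
def GenP (p : ℕ) (X : Type*) [Group X] : Prop :=
  ∀ P : X → Prop, (∀ u v, u ^ p = 1 → v ^ p = 1 → u * v ≠ v * u → P (u * v)) →
    (∀ x n, P (x ^ n) → P x) → (∀ z w, z ∈ center X → w ^ p = 1 → P (z * w) → P z) →
    ∀ x, (∀ k, x ^ p ^ k ≠ 1) → P x

structure RkOne (p : ℕ) (Y : Subgroup X) : Prop where
  cover : ∀ u : X, u ^ p = 1 → ∃ s, u ∈ conjS s Y
  uniq : ∀ V : Subgroup X, V ≤ normalizer (Y : Set X) →
    normalizer (Y : Set X) ≤ normalizer (V : Set X) → (∀ v ∈ V, v ^ p = 1) → V ≠ ⊥ → V = Y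
  gen : GenP p X

theorem RkOne.conj {Y : Subgroup X} (h : RkOne p Y) (g : X) : RkOne p (conjS g Y) where
  cover u hu := by
    obtain ⟨s, hs⟩ := h.cover u hu
    exact ⟨s * g⁻¹, by rwa [← conjS_mul, inv_mul_cancel_right]⟩
  uniq V h1 h2 h3 h4 := by
    rw [← conjS_normalizer] at h1 h2
    rw [← h.uniq (conjS g⁻¹ V) (le_conjS_iff.1 h1)
      (by rw [← conjS_normalizer]; exact conjS_le_iff.1 h2) ?_ (by rwa [ne_eq, conjS_eq_bot_iff]),
      conjS_conjS_inv]
    intro v hv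
    obtain ⟨y, hy, rfl⟩ := exists_of_mem_conjS hv
    rw [conj_pow, h3 y hy, mul_one, mul_inv_cancel]
  gen := h.gen

theorem isPGroup_of_pow {V : Subgroup X} (h : ∀ v ∈ V, v ^ p = 1) : IsPGroup p V :=
  isPGroup_iff_forall_mem.2 fun v hv => ⟨1, by rw [pow_one, h v hv]⟩

theorem cover_of_sylow [Finite X] [Fact p.Prime] {Y : Subgroup X} (h : IsSylowIn p Y ⊤) (u : X)
    (hu : u ^ p = 1) : ∃ s, u ∈ conjS s Y := by
  obtain ⟨s, -, hs⟩ := h.exists_le_conj (Q := zpowers u) (isPGroup_of_pow fun v hv => by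
    obtain ⟨n, rfl⟩ := mem_zpowers_iff.1 hv
    rw [← zpow_natCast, ← zpow_mul, mul_comm, zpow_mul, zpow_natCast, hu, one_zpow]) le_top
  exact ⟨s, hs (mem_zpowers u)⟩

theorem genP_two (h : ∀ x : X, (∀ k, x ^ 2 ^ k ≠ 1) → ∃ z, z * z = 1 ∧ z * x * z⁻¹ = x⁻¹) :
    GenP 2 X := by
  intro P h1 _ _ x hx
  obtain ⟨z, hz, hzx⟩ := h x hx
  have hi : z⁻¹ = z := inv_eq_of_mul_eq_one_right hz
  have := h1 (x * z) z (by
    rw [hi] at hzx
    rw [pow_two, mul_assoc, ← mul_assoc z, hzx, mul_inv_cancel]) (by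
      rw [pow_two, hz]) fun e => hx 1 (by
        rw [mul_assoc, hz, mul_one, ← mul_assoc] at e
        rw [hi, ← e] at hzx
        rw [pow_one, pow_two]
        exact mul_eq_one_iff_eq_inv.2 hzx)
  rwa [mul_assoc, hz, mul_one] at this

theorem rkOne_dihedral {r : ℕ} (hr : r.Prime) (h2 : r ≠ 2) {Y : Subgroup (DihedralGroup r)}
    (hY : IsPGroup 2 Y) (h1 : Y ≠ ⊥) : RkOne 2 Y := by
  have : NeZero r := ⟨hr.ne_zero⟩
  have hodd : ¬ 2 ∣ r := fun h => h2 ((Nat.prime_dvd_prime_iff_eq Nat.prime_two hr).1 h).symm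
  have hc := Y.card_mul_index
  rw [DihedralGroup.nat_card] at hc
  obtain ⟨k, hk⟩ := hY.exists_card_eq
  have hk1 : k = 1 := by
    have h0 : k ≠ 0 := fun e => h1 (card_eq_one.1 (by rw [hk, e, pow_zero]))
    by_contra h
    obtain ⟨j, rfl⟩ : ∃ j, k = j + 2 := ⟨k - 2, by omega⟩
    rw [hk, pow_add] at hc
    exact hodd ⟨2 ^ j * Y.index, by linarith⟩
  rw [hk1, pow_one] at hk
  have hS : IsSylowIn 2 Y ⊤ := isSylowIn_of_not_dvd_relIndex le_top hY (by
    rw [relIndex_top_right]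
    rw [hk] at hc
    rwa [Nat.eq_of_mul_eq_mul_left two_pos hc])
  refine ⟨cover_of_sylow hS, fun V h3 _ h4 h5 => ?_, genP_two fun x hx => ?_⟩
  · refine eq_of_le_of_card_ge (hS.le_of_normalizes (isPGroup_of_pow h4) le_top h3) ?_
    rw [hk]
    exact (one_lt_card_iff_ne_bot V).2 h5
  · rcases x with i | i
    · exact ⟨.sr 0, by simp, by simp⟩
    · exact absurd (by simp [pow_two]) (hx 1)

section Sz

open CfsgLib.Sz

variable {F : Type*} [Field F] [Finite F]

theorem sz_inverts (τ : Tits F) {m : ℕ} (hF : Nat.card F = 2 ^ (2 * m + 1)) (x : τ.grp)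
    (hx : ∀ k, x ^ 2 ^ k ≠ 1) : ∃ z, z * z = 1 ∧ z * x * z⁻¹ = x⁻¹ := by
  have hx1 : x ≠ 1 := fun e => hx 0 (by rw [e, one_pow])
  have h4 : ∀ ω, x ∉ τ.Upt ω := fun ω h => hx 2 (Tits.mem_Upt.1 h).2
  suffices ∃ A : Subgroup τ.grp, τ.IsTorus A ∧ x ∈ A ∧
      ∃ z ∈ normalizer (A : Set τ.grp), z * z = 1 ∧ z ≠ 1 by
    obtain ⟨A, hA, hxA, z, h1, h2, h3⟩ := this
    exact ⟨z, h2, hA.conj_eq_inv h1 h2 h3 hxA⟩
  rcases Nat.eq_zero_or_pos m with rfl | hm
  · have hF2 : Nat.card F = 2 := hF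
    by_cases hf : ∀ ω : τ.Pt, x • ω ≠ ω
    · have hA := Tits.isAniso_centralizer hf
      refine ⟨_, hA.isTorus, mem_centralizer_singleton_iff.2 rfl, τ.S 0 1, ?_,
        τ.S_zero_mul_self 1, τ.S_zero_one_ne_one⟩
      have h5 : Nat.card (centralizer {x}) = 5 := by
        have h6 := hA.card_dvd
        rw [hF2] at h6
        exact le_antisymm (Nat.le_of_dvd (by norm_num) h6) hA.five_le_card
      have h20 : Nat.card τ.grp = 20 := by rw [τ.card_grp, hF2]; norm_num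
      have : Fact (Nat.Prime 5) := ⟨by norm_num⟩
      have hi : (centralizer {x}).index = 4 := by
        have := (centralizer ({x} : Set τ.grp)).card_mul_index
        rw [h5, h20] at this
        omega
      let P := (IsPGroup.of_card (n := 1) (h5.trans (pow_one 5).symm)).toSylow
        (by rw [hi]; norm_num)
      have h7 : Nat.card (Sylow 5 τ.grp) = 1 := by
        have h8 : Nat.card (Sylow 5 τ.grp) ∣ 4 := P.card_dvd_index.trans hi.dvd
        have h9 := card_sylow_modEq_one 5 τ.grp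
        have h10 := Nat.le_of_dvd (by norm_num) h8
        unfold Nat.ModEq at h9
        omega
      have : Subsingleton (Sylow 5 τ.grp) := (Nat.card_eq_one_iff_unique.1 h7).1
      have h8 : (centralizer ({x} : Set τ.grp)).Normal := P.normal_of_subsingleton
      rw [normalizer_eq_top_iff.2 h8]
      trivial
    · push Not at hf
      obtain ⟨ω, hω⟩ := hf
      have h5 := Tits.orderOf_dvd_card_B hω
      rw [τ.card_B, hF2] at h5
      exact absurd (orderOf_dvd_iff_pow_eq_one.1 h5) (hx 2)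
  · obtain ⟨ω, h⟩ | h := Tits.mem_Upt_or_isTorus (Tits.exists_ne_zero_one' hm hF) hx1
    · exact absurd h (h4 ω)
    · exact ⟨_, h, mem_centralizer_singleton_iff.2 rfl, h.exists_involution hm hF⟩

theorem rkOne_sz (τ : Tits F) {m : ℕ} (hF : Nat.card F = 2 ^ (2 * m + 1)) {Y : Subgroup τ.grp}
    (hY : ∀ y ∈ Y, y ^ 2 = 1) (hc : Nat.card F = Nat.card Y) : RkOne 2 Y := by
  have hZ : RkOne 2 τ.Z := by
    refine ⟨fun u hu => ?_, fun V h1 h2 h3 h4 => ?_, genP_two (sz_inverts τ hF)⟩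
    · obtain ⟨x, hx⟩ := Tits.exists_conj_mem_Z (g := u) (by rwa [← pow_two])
      exact ⟨x, mem_conjS.2 hx⟩
    · rw [τ.normalizer_Z] at h1 h2
      have h5 : V ≤ τ.Z := fun v hv => Tits.mem_Z_iff.2 ⟨h1 hv, by rw [← pow_two, h3 v hv]⟩
      refine le_antisymm h5 fun z hz => ?_
      obtain ⟨⟨v, hv⟩, hv1⟩ := (ne_bot_iff_exists_ne_one).1 h4
      obtain ⟨b, rfl⟩ := Tits.mem_Z.1 (h5 hv)
      obtain ⟨d, rfl⟩ := Tits.mem_Z.1 hz
      by_cases hd : d = 0
      · rw [hd, τ.S_zero]; exact one_mem _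
      obtain ⟨k, hk⟩ := τ.exists_M_conj_S_zero (b := b)
        (fun e => hv1 (Subtype.ext (τ.S_eq_one.2 ⟨rfl, e⟩))) hd
      exact hk ▸ conj_mem_of_mem_normalizer (h2 (τ.M_mem_B k)) hv
  obtain ⟨g, -, hg⟩ := (isSylowIn_top τ.sylowU).exists_conj_le (isPGroup_of_pow hY) le_top
  have h1 : conjS g Y ≤ τ.Z := fun x hx => Tits.mem_Z_iff'.2 ⟨hg hx, by
    obtain ⟨y, hy, rfl⟩ := exists_of_mem_conjS hx
    rw [← pow_two, conj_pow, hY y hy, mul_one, mul_inv_cancel]⟩
  rw [← conjS_inv_conjS g Y, eq_of_le_of_card_ge h1 (by rw [τ.card_Z, card_conjS, hc])]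
  exact hZ.conj _

end Sz

section SL2

open CfsgLib.SL2

variable {F : Type*} [Field F] [Fintype F] [Fact p.Prime] [CharP F p]

theorem uu_pow_p (b : F) : uu b ^ p = 1 := by rw [uu_pow, CharP.cast_eq_zero, zero_mul, uu_zero]

theorem ll_pow_p (b : F) : ll b ^ p = 1 := by
  have : ll b = ww * uu (-b) * ww⁻¹ := by
    apply ext2 <;> simp [mul_ap, inv_00, inv_01, inv_10, inv_11]
  rw [this, conj_pow, uu_pow_p, mul_one, mul_inv_cancel]

theorem uu_ll_ne {b : F} (hb : b ≠ 0) : uu (1 : F) * ll b ≠ ll b * uu 1 := fun e => hb (by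
  simpa [mul_ap] using congrArg (fun g : SL(2, F) => g 0 0) e)

theorem genP_sl2 : GenP p SL(2, F) := by
  intro P h1 h2 h3 x hx
  by_cases ht : tr x ^ 2 = 4
  · have key : ∀ z : SL(2, F), IsScal z → z ≠ 1 → P z := by
      intro z hz hz1
      have hz2 := ((isScal_iff z).1 hz).resolve_left hz1
      have h20 : (2 : F) ≠ 0 := fun e => hz1 (by
        rw [hz2]
        apply ext2 <;> simp [neg_ap]
        all_goals linear_combination -e)
      refine h3 z (ll 2 * uu (-1) * (ll 2)⁻¹) ((mem_center_iff_isScal z).2 hz)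
        (by rw [conj_pow, uu_pow_p, mul_one, mul_inv_cancel]) ?_
      have : z * (ll 2 * uu (-1) * (ll 2)⁻¹) = uu 1 * ll (-4) := by
        rw [hz2]
        apply ext2 <;> simp [mul_ap, neg_ap, inv_00, inv_01, inv_10, inv_11] <;> ring
      rw [this]
      refine h1 _ _ (uu_pow_p _) (ll_pow_p _) (uu_ll_ne fun e => h20 ?_)
      exact (pow_eq_zero_iff two_ne_zero).1 (by linear_combination -e)
    by_cases hs : IsScal x
    · exact key x hs fun e => hx 0 (by rw [e, one_pow])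
    · obtain ⟨z, b, hz, -, hc⟩ := exists_conj_unip hs ht
      obtain ⟨c, rfl⟩ := isConj_iff.1 hc
      have hzc := (mem_center_iff_isScal z).2 hz
      have e : (c * (z * uu b) * c⁻¹) ^ p = z ^ p := by
        rw [conj_pow, (show Commute z (uu b) from (mem_center_iff.1 hzc _).symm).mul_pow, uu_pow_p,
          mul_one, mem_center_iff.1 (pow_mem hzc p) c, mul_inv_cancel_right]
      refine h2 _ p (e ▸ key _ ((mem_center_iff_isScal _).1 (pow_mem hzc p)) fun e' => hx 1 ?_)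
      rw [pow_one, e, e']
  · have hb : tr x - 2 ≠ 0 := fun e => ht (by rw [sub_eq_zero.1 e]; norm_num)
    obtain ⟨c, hc⟩ := isConj_iff.1 (isConj_of_tr_eq (h := uu 1 * ll (tr x - 2)) ht (by
      simp [tr_def, mul_ap]; ring)).symm
    have : x = (c * uu 1 * c⁻¹) * (c * ll (tr x - 2) * c⁻¹) := by
      rw [conj_mul, hc]
    rw [this]
    refine h1 _ _ (by rw [conj_pow, uu_pow_p, mul_one, mul_inv_cancel])
      (by rw [conj_pow, ll_pow_p, mul_one, mul_inv_cancel]) fun e => uu_ll_ne hb ?_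
    rw [conj_mul, conj_mul] at e
    exact mul_left_cancel (mul_right_cancel e)

/-- The upper unitriangular subgroup of `SL₂(F)`. -/
def uuSub (F : Type*) [Field F] : Subgroup SL(2, F) where
  carrier := Set.range uu
  one_mem' := ⟨0, uu_zero⟩
  mul_mem' := by rintro _ _ ⟨a, rfl⟩ ⟨b, rfl⟩; exact ⟨a + b, uu_add a b⟩
  inv_mem' := by rintro _ ⟨a, rfl⟩; exact ⟨-a, uu_neg a⟩

theorem card_uuSub : Nat.card (uuSub F) = Nat.card F :=
  (Nat.card_congr (Equiv.ofInjective _ uu_injective)).symm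

theorem dg_conj_uu (a : Fˣ) (b : F) : dg a * uu b * (dg a)⁻¹ = uu ((a : F) ^ 2 * b) := by
  apply ext2 <;> simp [mul_ap, inv_00, inv_01, inv_10, inv_11]
  ring

theorem isSylowIn_uuSub : IsSylowIn p (uuSub F) ⊤ := by
  refine isSylowIn_of_not_dvd_relIndex le_top
    (isPGroup_of_pow (by rintro _ ⟨a, rfl⟩; exact uu_pow_p a)) fun h => ?_
  have hc := (uuSub F).card_mul_index
  rw [card_uuSub, card_SL2, Nat.card_eq_fintype_card] at hc
  rw [relIndex_top_right, Nat.eq_of_mul_eq_mul_left Fintype.card_pos hc] at h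
  have h1 : p ∣ Fintype.card F ^ 2 :=
    dvd_pow ((CharP.cast_eq_zero_iff F p _).1 (FiniteField.cast_card_eq_zero F)) two_ne_zero
  have h2 : 1 ≤ Fintype.card F ^ 2 := Nat.one_le_pow _ _ Fintype.card_pos
  have := (Nat.dvd_sub_iff_right h2 h1).1 h
  exact (Fact.out : p.Prime).one_lt.ne' (Nat.dvd_one.1 this)

theorem rkOne_uuSub : RkOne p (uuSub F) := by
  refine ⟨cover_of_sylow isSylowIn_uuSub, fun V h1 h2 h3 h4 => ?_, genP_sl2⟩
  have h5 := (isSylowIn_uuSub (p := p)).le_of_normalizes (isPGroup_of_pow h3) le_top h1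
  refine le_antisymm h5 ?_
  obtain ⟨⟨v, hv⟩, hv1⟩ := (ne_bot_iff_exists_ne_one).1 h4
  obtain ⟨b, rfl⟩ := h5 hv
  have hb : b ≠ 0 := fun e => hv1 (Subtype.ext ((congrArg uu e).trans uu_zero))
  have key : ∀ a : F, uu (a ^ 2 * b) ∈ V := fun a => by
    by_cases ha : a = 0
    · rw [ha, zero_pow two_ne_zero, zero_mul, uu_zero]; exact one_mem _
    · have : dg (Units.mk0 a ha) ∈ normalizer (uuSub F : Set SL(2, F)) :=
        mem_normalizer_of_conjS_le (conjS_le_iff_forall.2 (by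
          rintro _ ⟨c, rfl⟩; exact ⟨_, (dg_conj_uu _ _).symm⟩))
      have := conj_mem_of_mem_normalizer (h2 this) hv
      rwa [dg_conj_uu] at this
  rintro _ ⟨c, rfl⟩
  by_cases h2 : ringChar F = 2
  · obtain ⟨a, ha⟩ := FiniteField.isSquare_of_char_two h2 (c / b)
    have := key a
    rwa [pow_two, ← ha, div_mul_cancel₀ _ hb] at this
  · have h20 : (2 : F) ≠ 0 := Ring.two_ne_zero h2
    have := mul_mem (key ((c / b + 1) / 2)) (inv_mem (key ((c / b - 1) / 2)))
    rwa [← uu_neg, ← uu_add, show ((c / b + 1) / 2) ^ 2 * b + -(((c / b - 1) / 2) ^ 2 * b) = c by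
      field_simp; ring] at this

omit [CharP F p] in
theorem rkOne_sl2 {Y : Subgroup SL(2, F)} (hY : IsPGroup p Y)
    (hc : Fintype.card F = Nat.card Y) : RkOne p Y := by
  obtain ⟨k, hk⟩ := hY.exists_card_eq
  have : CharP F p := charP_of_card_eq_prime_pow (hc.trans hk)
  obtain ⟨g, -, hg⟩ := (isSylowIn_uuSub (p := p) (F := F)).exists_conj_le hY le_top
  rw [← conjS_inv_conjS g Y, eq_of_le_of_card_ge hg (by
    rw [card_uuSub, card_conjS, ← hc, Nat.card_eq_fintype_card])]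
  exact rkOne_uuSub.conj _

end SL2

end CfsgLib.LocStr
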