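import Mathlib
import Cfsg.Agent.Lib.LocStr.RkModel
import Cfsg.Agent.Lib.LocStr.MinimalA

/-!
The family `𝔏_G(Y_M)`.
-/

set_option autoImplicit false
set_option linter.unusedSectionVars false

namespace CfsgLib.LocStr

open Subgroup Cfsg CfsgLib.LAE CfsgLib.PLocal
open scoped commutatorElement

variable {G : Type*} [Group G] {p : ℕ}

/-- The elements of `L` centralizing `a` modulo `C`. -/
def relStab (L C : Subgroup G) (h : L ≤ normalizer (C : Set G)) (a : G) : Subgroup G where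
  carrier := {x | x ∈ L ∧ ⁅x, a⁆ ∈ C}
  one_mem' := ⟨one_mem _, by simp⟩
  mul_mem' := by
    rintro x y ⟨hx, hx'⟩ ⟨hy, hy'⟩
    refine ⟨mul_mem hx hy, ?_⟩
    have : ⁅x * y, a⁆ = x * ⁅y, a⁆ * x⁻¹ * ⁅x, a⁆ := by simp only [commutatorElement_def]; group
    rw [this]
    exact mul_mem (conj_mem_of_mem_normalizer (h hx) hy') hx'
  inv_mem' := by
    rintro x ⟨hx, hx'⟩
    refine ⟨inv_mem hx, ?_⟩
    have : ⁅x⁻¹, a⁆ = x⁻¹ * ⁅x, a⁆⁻¹ * x := by simp only [commutatorElement_def]; group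
    rw [this]
    exact conj_inv_mem_of_mem_normalizer (h hx) (inv_mem hx')

theorem mem_relStab {L C : Subgroup G} {h : L ≤ normalizer (C : Set G)} {a x : G} :
    x ∈ relStab L C h a ↔ x ∈ L ∧ ⁅x, a⁆ ∈ C := Iff.rfl

theorem commutatorElement_mem_comm' {C : Subgroup G} {a x : G} : ⁅x, a⁆ ∈ C ↔ ⁅a, x⁆ ∈ C := by
  rw [← commutatorElement_inv, inv_mem_iff]

variable [Finite G] [Fact p.Prime]

namespace MinA

variable {Y L L₀ : Subgroup G}

theorem nclIn_conj {g : G} (hg : g ∈ L) :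
    nclIn (pCoreOf p L ⊓ conjS g Y) L = nclIn (pCoreOf p L ⊓ Y) L := by
  rw [← MinA.conj_B hg, ← mem_normalizer_iff_conjS.1 (le_normalizer_nclIn (pCoreOf p L ⊓ Y) L hg),
    conjS_nclIn, conjS_eq_of_mem hg]

theorem norm_center (_ : MinA p Y L L₀) :
    L ≤ normalizer ((Y ⊓ centralizer (L : Set G) : Subgroup G) : Set G) :=
  (le_centralizer_iff.1 inf_le_right).trans (centralizer_le_normalizer _)

theorem exists_not_mem_conj (h : MinA p Y L L₀) {y : G} (hy : y ∈ Y) (hyA : y ∉ pCoreOf p L) :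
    ∃ g ∈ L, y ∉ conjS g L₀ := by
  by_contra hc
  push Not at hc
  have h1 : zpowers y ≤ L := zpowers_le.2 (h.le_top' hy)
  refine hyA (h.le_op_of_normal h.isPGroup (N := nclIn (zpowers y) L) (nclIn_le_iff.2 fun g hg => ?_)
    (le_normalizer_nclIn _ _) (h.isPGroup.to_le (zpowers_le.2 hy)) (le_nclIn _ _) (mem_zpowers y))
  rw [conjS_le_iff]
  exact zpowers_le.2 (hc _ (inv_mem hg))

theorem mem_of_comm (h : MinA p Y L L₀) {a y : G} (ha : a ∈ nclIn (pCoreOf p L ⊓ Y) L)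
    (hy : y ∈ Y) (hyA : y ∉ pCoreOf p L) (hc : ⁅y, a⁆ ∈ Y ⊓ centralizer (L : Set G)) : a ∈ Y := by
  obtain ⟨g, hg, hyg⟩ := h.exists_not_mem_conj hy hyA
  have hg0 : g ∉ L₀ := fun e => hyg (by rw [conjS_eq_of_mem e]; exact h.le hy)
  obtain ⟨b, hb, c, hc', rfl⟩ := (h.mem_nclIn_iff hg hg0).1 ha
  refine mul_mem hb.2 ?_
  have h' := h.conj hg
  have hYY : ∀ {Z : Subgroup G}, IsElementaryAbelian p Z → ∀ a ∈ Z, ∀ b ∈ Z, ⁅a, b⁆ = 1 :=
    fun hZ a ha b hb => commutatorElement_eq_one_iff_mul_comm.2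
      (congrArg Subtype.val (hZ.1.is_comm.comm (⟨a, ha⟩ : _) ⟨b, hb⟩))
  have hbL := h.le_top' hb.2
  have hcL := h'.le_top' hc'.2
  have h1 : c ∈ relStab L _ h.norm_center y :=
    (Subgroup.mul_mem_cancel_left (relStab L _ h.norm_center y)
      ⟨hbL, by rw [hYY h.elem b hb.2 y hy]; exact one_mem _⟩).1
      ⟨mul_mem hbL hcL, commutatorElement_mem_comm'.1 hc⟩
  have h2 : L ≤ relStab L _ h.norm_center c := by
    rcases h'.eq_or_le (X := relStab L _ h.norm_center c) (fun x hx => ⟨h'.le_top' hx, by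
      rw [hYY h'.elem x hx c hc'.2]; exact one_mem _⟩) (fun x hx => hx.1) with e | e
    · exact e.ge
    · exact absurd (e ⟨h.le_top' hy, commutatorElement_mem_comm'.1 h1.2⟩) hyg
  have h3 := (h2 (inv_mem hg)).2.1
  rw [commutatorElement_def, inv_inv] at h3
  exact inv_mem_iff.1 ((mul_mem_cancel_left (mem_conjS.1 hc'.2)).1 h3)

theorem fpf_mul (h : MinA p Y L L₀) {g a u v : G} (hg : g ∈ L) (hg0 : g ∉ L₀)
    (ha : a ∈ nclIn (pCoreOf p L ⊓ Y) L) (hu : u ∈ Y) (huA : u ∉ pCoreOf p L)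
    (hv : v ∈ conjS g Y) (hvA : v ∉ pCoreOf p L)
    (hc : ⁅u * v, a⁆ ∈ Y ⊓ centralizer (L : Set G)) : a ∈ Y ⊓ centralizer (L : Set G) := by
  have h' := h.conj hg
  have haA := h.nclIn_le_op ha
  have h1 : ⁅v, a⁆ ∈ Y ⊓ centralizer (L : Set G) := by
    rw [← h.inf_conj hg hg0]
    refine ⟨?_, commutatorElement_mem_comm'.1
      (h'.commutator_op_le (commutator_mem_commutator haA hv)).2⟩
    have : ⁅v, a⁆ = u⁻¹ * (⁅u * v, a⁆ * ⁅a, u⁆) * u := by simp only [commutatorElement_def]; group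
    rw [this]
    exact Y.mul_mem (Y.mul_mem (Y.inv_mem hu) (Y.mul_mem hc.1
      (h.commutator_op_le (commutator_mem_commutator haA hu)).2)) hu
  have h2 : u ∈ relStab L _ h.norm_center a :=
    (Subgroup.mul_mem_cancel_right (relStab L _ h.norm_center a) ⟨h'.le_top' hv, h1⟩).1
      ⟨mul_mem (h.le_top' hu) (h'.le_top' hv), hc⟩
  rw [← h.inf_conj hg hg0]
  refine ⟨h.mem_of_comm ha hu huA h2.2, h'.mem_of_comm ?_ hv hvA (by rwa [h.conj_center hg])⟩
  rwa [nclIn_conj hg]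

theorem fpf (h : MinA p Y L L₀) (hA : nclIn (pCoreOf p L ⊓ Y) L = pCoreOf p L)
    (h0 : L₀ ≤ normalizer (Y : Set G)) {X : Type*}
    [Group X] {π : L →* X} (hπ : Function.Surjective π) (hk : π.ker = pCore p L)
    (hR : RkOne p ((Y.subgroupOf L).map π)) (x : L) (hx : ∀ k, (x : G) ^ p ^ k ≠ 1) {a : G}
    (ha : a ∈ pCoreOf p L) (hc : ⁅(x : G), a⁆ ∈ Y ⊓ centralizer (L : Set G)) :
    a ∈ Y ⊓ centralizer (L : Set G) := by
  have hker : ∀ x : L, π x = 1 ↔ (x : G) ∈ pCoreOf p L := fun x => by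
    rw [← mem_pCore_iff, ← hk, MonoidHom.mem_ker]
  have hAA : ∀ a ∈ pCoreOf p L, pCoreOf p L ≤ relStab L _ h.norm_center a := fun a ha b hb =>
    ⟨pCoreOf_le L hb, h.commutator_le_center (by rw [hA]; exact commutator_mem_commutator hb ha)⟩
  have lift : ∀ a ∈ pCoreOf p L, ∀ x y : L, π x = π y → (x : G) ∈ relStab L _ h.norm_center a →
      (y : G) ∈ relStab L _ h.norm_center a := fun a ha x y e hx =>
    (mul_mem_cancel_left (inv_mem hx)).1 (hAA a ha ((hker (x⁻¹ * y)).1 (by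
      rw [map_mul, map_inv, e, inv_mul_cancel])))
  refine hR.gen (fun z => ∀ x : L, π x = z → ∀ a ∈ pCoreOf p L,
    (x : G) ∈ relStab L _ h.norm_center a → a ∈ Y ⊓ centralizer (L : Set G)) ?_ ?_ ?_ (π x) ?_
    x rfl a ha ⟨x.2, hc⟩
  · intro u v hu hv huv x hx a ha hxa
    have key : ∀ u : X, u ^ p = 1 → ∃ s u' : L, π u' = u ∧ (u' : G) ∈ conjS (s : G) Y := by
      intro u hu
      obtain ⟨s, hs⟩ := hR.cover u hu
      obtain ⟨s, rfl⟩ := hπ s
      obtain ⟨_, ⟨y, hy, rfl⟩, rfl⟩ := exists_of_mem_conjS hs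
      exact ⟨s, s * y * s⁻¹, by simp, conj_mem_conjS.2 hy⟩
    obtain ⟨s, u, rfl, hu'⟩ := key u hu
    obtain ⟨t, v, rfl, hv'⟩ := key v hv
    have h' := h.conj s.2
    have e1 : conjS ((t : G) * (s : G)⁻¹) (conjS (s : G) Y) = conjS (t : G) Y := by
      rw [← conjS_mul, inv_mul_cancel_right]
    rw [← h.conj_center s.2]
    refine h'.fpf_mul (u := u) (v := v) (mul_mem t.2 (inv_mem s.2)) (fun e => huv ?_) ?_ hu'
      (fun e => huv (by rw [(hker u).2 e, one_mul, mul_one])) (e1 ▸ hv')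
      (fun e => huv (by rw [(hker v).2 e, one_mul, mul_one])) ?_
    · have h1 := conjS_mono (g := (s : G)) h0 e
      rw [conjS_normalizer, mem_normalizer_iff_conjS, e1] at h1
      rw [h1] at hv'
      rw [← map_mul, ← map_mul]
      have h2 := congrArg Subtype.val
        (h'.elem.1.is_comm.comm (⟨u, hu'⟩ : conjS (s : G) Y) ⟨v, hv'⟩)
      exact congrArg π (Subtype.ext h2)
    · rwa [nclIn_conj s.2, hA]
    · rw [h.conj_center s.2]
      exact (lift a ha x (u * v) (by rw [hx, map_mul]) hxa).2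
  · intro z n hz x hx a ha hxa
    exact hz (x ^ n) (by rw [map_pow, hx]) a ha (pow_mem hxa n)
  · intro z w hz hw hzw x hx a ha hxa
    obtain ⟨k, rfl⟩ := hπ w
    by_contra hne
    set W := pCoreOf p L ⊓ relStab L _ h.norm_center (x : G) with hW
    have hn : zpowers (k : G) ≤ normalizer (W : Set G) := by
      refine zpowers_le.2 (mem_normalizer_of_conjS_le (conjS_le_iff_forall.2 fun b hb => ?_))
      have h1 := conj_mem_of_mem_normalizer (le_normalizer_pCoreOf (p := p) L k.2) hb.1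
      refine ⟨h1, pCoreOf_le L h1, ?_⟩
      have h2 := lift b hb.1 x (k⁻¹ * x * k) (by
        rw [map_mul, map_mul, map_inv, hx, mul_assoc, ← mem_center_iff.1 hz, inv_mul_cancel_left])
        ⟨x.2, commutatorElement_mem_comm'.1 hb.2.2⟩
      have h3 := conj_mem_of_mem_normalizer (h.norm_center k.2) (commutatorElement_mem_comm'.1 h2.2)
      have : (k : G) * ⁅b, ((k⁻¹ * x * k : L) : G)⁆ * (k : G)⁻¹ = ⁅(k : G) * b * (k : G)⁻¹, (x : G)⁆ := by
        simp only [commutatorElement_def, coe_mul, coe_inv]; group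
      exact this ▸ h3
    have hkp : IsPGroup p (zpowers (k : G)) := by
      obtain ⟨m, hm⟩ := isPGroup_iff_forall_mem.1 (isPGroup_pCoreOf (p := p) L) _
        ((hker (k ^ p)).1 (by rw [map_pow, hw]))
      refine isPGroup_iff_forall_mem.2 fun y hy => ⟨m + 1, ?_⟩
      obtain ⟨n, rfl⟩ := mem_zpowers_iff.1 hy
      rw [coe_pow, ← pow_mul, ← pow_succ'] at hm
      rw [← zpow_natCast, ← zpow_mul, mul_comm, zpow_mul, zpow_natCast, hm, one_zpow]
    obtain ⟨n, hn'⟩ := exists_iterCommutator_eq_bot_of_isPGroup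
      ((isPGroup_pCoreOf L).to_le (inf_le_left : W ≤ _)) hkp hn
    obtain ⟨b, hb, hbC, hbk⟩ := exists_mem_not_mem_commutator_mem hn hn'
      (U := Y ⊓ centralizer (L : Set G)) fun e =>
        hne (e ⟨ha, pCoreOf_le L ha, commutatorElement_mem_comm'.1 hxa.2⟩)
    exact hbC (hzw (x * k) (by rw [map_mul, hx]) b hb.1 (mul_mem
      (⟨x.2, commutatorElement_mem_comm'.1 hb.2.2⟩ : (x : G) ∈ relStab L _ h.norm_center b)
      ⟨k.2, commutatorElement_mem_comm'.1 (hbk _ (mem_zpowers _))⟩))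
  · intro k e
    obtain ⟨m, hm⟩ := isPGroup_iff_forall_mem.1 (isPGroup_pCoreOf (p := p) L) _
      ((hker (x ^ p ^ k)).1 (by rw [map_pow, e]))
    rw [coe_pow, ← pow_mul, ← pow_add] at hm
    exact hx _ hm

end MinA

theorem minA_of_frakL {M L : Subgroup G} (hY : IsElementaryAbelian p (largestPReducedOf p M))
    (hL : IsInFrakL p M L) : MinA p (largestPReducedOf p M) L
      (L ⊓ normalizer (largestPReducedOf p M : Set G)) := by
  obtain ⟨L₀, h0⟩ := exists_minOver hL.1 hL.2.2.2.1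
  exact ⟨⟨le_inf hL.1 le_normalizer, hL.2.2.2.2.2.1.1, hL.2.2.2.2.2.1.2, h0.gen⟩, hY, hL.2.2.1⟩

theorem nclIn_of_frakL {M L : Subgroup G} (hL : IsInFrakL p M L) :
    nclIn (pCoreOf p L ⊓ largestPReducedOf p M) L = pCoreOf p L := by
  rw [inf_comm, ← map_normalClosure_subgroupOf (inf_le_left.trans hL.1)]
  exact hL.2.1.symm

theorem exists_model {M L : Subgroup G} (hY : IsElementaryAbelian p (largestPReducedOf p M))
    (hL : IsInFrakL p M L) : ∃ (X : Type) (_ : Group X) (π : L →* X), Function.Surjective π ∧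
      π.ker = pCore p L ∧ RkOne p (((largestPReducedOf p M).subgroupOf L).map π) := by
  have h := minA_of_frakL hY hL
  have key : ∀ {X : Type} [Group X] (e : L ⧸ pCore p L ≃* X), ∃ π : L →* X,
      Function.Surjective π ∧ π.ker = pCore p L ∧
      (∀ y ∈ ((largestPReducedOf p M).subgroupOf L).map π, y ^ p = 1) ∧
      ((largestPReducedOf p M).subgroupOf L).map π ≠ ⊥ ∧
      (largestPReducedOf p M ⊓ pCoreOf p L).relIndex (largestPReducedOf p M) =
        Nat.card (((largestPReducedOf p M).subgroupOf L).map π) := by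
    intro X _ e
    have hk : (e.toMonoidHom.comp (QuotientGroup.mk' (pCore p L))).ker = pCore p L := by
      rw [← MonoidHom.comap_ker, MonoidHom.ker_eq_bot_iff _ |>.2 e.injective, MonoidHom.comap_bot,
        QuotientGroup.ker_mk']
    refine ⟨e.toMonoidHom.comp (QuotientGroup.mk' _),
      e.surjective.comp (QuotientGroup.mk'_surjective _), hk, ?_, fun e' => ?_, ?_⟩
    · rintro _ ⟨y, hy, rfl⟩
      rw [← map_pow, show y ^ p = 1 from Subtype.ext (hY.2 _ hy), map_one]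
    · rw [Subgroup.map_eq_bot_iff, hk] at e'
      exact h.not_le_op h.isPGroup fun y hy =>
        mem_pCore_iff.1 (e' (show (⟨y, hL.1 hy⟩ : L) ∈ _ from hy))
    · rw [← relIndex_ker, hk, ← pCoreOf_subgroupOf, relIndex_subgroupOf hL.1, inf_relIndex_left]
  rcases hL.2.2.2.2.2.2 with ⟨F, _, _, hc, ⟨e⟩⟩ | ⟨rfl, F, _, _, m, hF, hc, ⟨e⟩⟩ |
    ⟨rfl, r, hr, h2, ⟨e⟩⟩
  · obtain ⟨π, h1, h2, h3, -, h5⟩ := key e
    exact ⟨_, _, π, h1, h2, rkOne_sl2 (isPGroup_of_pow h3) (hc.trans h5)⟩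
  · rw [CfsgLib.Sz.lieSz_eq hF] at e
    obtain ⟨π, h1, h2, h3, -, h5⟩ := key e
    exact ⟨_, _, π, h1, h2, rkOne_sz _ (Nat.card_eq_fintype_card.trans hF) h3
      (Nat.card_eq_fintype_card.trans (hc.trans h5))⟩
  · obtain ⟨π, h1, h3, h4, h5, -⟩ := key e
    exact ⟨_, _, π, h1, h3, rkOne_dihedral hr h2 (isPGroup_of_pow h4) h5⟩

end CfsgLib.LocStr
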