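import Mathlib
import Cfsg.Agent.Lib.LocStr.Large
import Cfsg.Agent.Lib.LAE.PRed
import Cfsg.Agent.Lib.Core.Commutator

/-!
`O^p` of the weak closure of a weakly closed subgroup.
-/

set_option autoImplicit false
set_option linter.unusedSectionVars false

namespace CfsgLib.LocStr

open Subgroup Cfsg CfsgLib.LAE
open scoped commutatorElement

variable {G : Type*} [Group G] {p : ℕ} [Finite G] [Fact p.Prime]

theorem wc_weakClosure_eq_nclIn {Q K : Subgroup G} (h : IsWeaklyClosedSubgroup p Q) (hQK : Q ≤ K) :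
    weakClosure Q K = nclIn Q K := wc_weakClosure_eq_iSup h hQK

theorem wc_weakClosure_le_commutator {Q L : Subgroup G} (h : IsWeaklyClosedSubgroup p Q)
    (hQL : Q ≤ L) : weakClosure Q L ≤ ⁅pResOf p (weakClosure Q L), Q⁆ ⊔ Q := by
  obtain ⟨T, hT, -, hn⟩ := wc_exists_sylow_le_normalizer h (le_weakClosure hQL)
  conv_lhs => rw [← weakClosure_idem]
  rw [wc_weakClosure_le_iff h (le_weakClosure hQL), ← nclIn_eq_commutator_sup]
  intro k hk
  obtain ⟨r, hr, s, hs, rfl⟩ := hT.exists_mul hk
  rw [conjS_mul, mem_normalizer_iff_conjS.1 (hn hs)]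
  exact conjS_le_nclIn hr

theorem wc_commutator_pResOf {Q L : Subgroup G} (h : IsWeaklyClosedSubgroup p Q) (hQL : Q ≤ L) :
    ⁅pResOf p (weakClosure Q L), Q⁆ = pResOf p (weakClosure Q L) := by
  have hn : Q ≤ normalizer (pResOf p (weakClosure Q L) : Set G) :=
    (le_weakClosure hQL).trans (le_normalizer_pResOf _)
  exact le_antisymm (commutator_le_left_of_le_normalizer hn)
    (pResOf_le_of_le_sup (wc_isPGroup h) (le_normalizer_commutator hn le_normalizer)
      (wc_weakClosure_le_commutator h hQL))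

theorem wc_pResOf_sup {Q L : Subgroup G} (h : IsWeaklyClosedSubgroup p Q) (hQL : Q ≤ L) :
    pResOf p (weakClosure Q L) ⊔ Q = weakClosure Q L := by
  refine le_antisymm (sup_le (pResOf_le _) (le_weakClosure hQL)) ?_
  have := wc_weakClosure_le_commutator h hQL
  rwa [wc_commutator_pResOf h hQL] at this

/-- A subgroup `D ≤ N(Q)` normalized by `L ≥ Q` has `[L°, D] ≤ O_p(D)`. -/
theorem wc_commutator_le_op {Q L D : Subgroup G} (h : IsWeaklyClosedSubgroup p Q) (hQL : Q ≤ L)
    (hD : D ≤ normalizer (Q : Set G)) (hn : L ≤ normalizer (D : Set G)) :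
    ⁅weakClosure Q L, D⁆ ≤ pCoreOf p D := by
  rw [wc_weakClosure_eq_nclIn h hQL]
  refine commutator_nclIn_le ((hQL.trans hn).trans (normalizer_le_normalizer_pCoreOf D)) hn
    (hn.trans (normalizer_le_normalizer_pCoreOf D)) ?_
  refine (le_inf (commutator_le_left_of_le_normalizer hD)
    (commutator_le_right_of_le_normalizer (hQL.trans hn))).trans ?_
  exact le_pCoreOf (wc_isPGroup h).to_inf_left inf_le_right (le_normalizer_inf hD le_normalizer)

end CfsgLib.LocStr
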